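import Cfsg.Agent.Omega.FOne.TvwGen

/-!
# THEOREM JZ (bb OMEGA #26032, helper582): the block argument (3)-(5), module level (helper87)

`U` (here `W`) = the `𝔽₂`-space of `U_z = ⟨V^{C_G(z)}⟩`, `H` = the image of `C_G(z)`, `y` = `z`, `l` = `12`, `a` = `13`,
`b` = `14`, `p` = `15`, `N` = the image of `O₂(C_G(12,34))`.

* `not_mem_blk` : `l` lies in no block;
* `false_of`    : no element of `N` is a transvection with swapped centre.
-/

set_option autoImplicit false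
set_option linter.unusedSectionVars false

namespace Cfsg.Agent.Omega.NO3S.JZ.BlkEnd

open Cfsg.Agent.Omega.FOne.Tvw

variable {W : Type*} [AddCommGroup W] [Module (ZMod 2) W]
variable {H : Subgroup (W ≃ₗ[ZMod 2] W)} {y : W} {Θ : Set W}

set_option synthInstance.maxSize 1000 in
set_option synthInstance.maxHeartbeats 400000 in
/-- the functional of a plane -/
theorem dk1 : ∀ α β : T3, (α ≠ 0 ∧ β ≠ 0 ∧ α ≠ β) → ∃ k : T3, k ≠ 0 ∧ dot k α = 0 ∧ dot k β = 0 := by decide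

set_option synthInstance.maxSize 1000 in
set_option synthInstance.maxHeartbeats 400000 in
/-- it is unique -/
theorem dk2 : ∀ α β k : T3, (α ≠ 0 ∧ β ≠ 0 ∧ α ≠ β) → (k ≠ 0 ∧ dot k α = 0 ∧ dot k β = 0) →
    ∀ k' : T3, k' ≠ 0 → dot k' α = 0 → dot k' β = 0 → k' = k := by decide

set_option synthInstance.maxSize 1000 in
set_option synthInstance.maxHeartbeats 400000 in
/-- its kernel -/
theorem dk3 : ∀ α β k : T3, (α ≠ 0 ∧ β ≠ 0 ∧ α ≠ β) → (k ≠ 0 ∧ dot k α = 0 ∧ dot k β = 0) →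
    ∀ γ : T3, dot k γ = 0 → γ = 0 ∨ γ = α ∨ γ = β ∨ γ = α + β := by decide

set_option synthInstance.maxSize 1000 in
set_option synthInstance.maxHeartbeats 400000 in
/-- an opposite pair -/
theorem dk4 : ∀ k c : T3, k ≠ 0 → c ≠ 0 → dot k c = 0 →
    ∃ c' k' : T3, dot k c' = 1 ∧ dot k' c' = 0 ∧ dot k' c = 1 := by decide

set_option synthInstance.maxSize 1000 in
set_option synthInstance.maxHeartbeats 400000 in
/-- a second functional -/
theorem dk5 : ∀ k c : T3, c ≠ 0 → ∃ k₁ : T3, k₁ ≠ 0 ∧ k₁ ≠ k ∧ dot k₁ c = 0 := by decide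

set_option synthInstance.maxSize 1000 in
set_option synthInstance.maxHeartbeats 400000 in
/-- the swap -/
theorem dk6 : ∀ c : T3, c ≠ 0 → ∃ k c' : T3, k ≠ 0 ∧ c' ≠ 0 ∧ c' ≠ c ∧ dot k c' = 0 ∧ dot k c = 0 := by decide

theorem dk7 : ∀ a : ZMod 2, ∀ c : T3, c ≠ 0 → a • c = 0 → a = 0 := by decide

section

variable [Finite W]

/-- the element `w ↦ w + k(w) c + k'(w) y` of the block -/
theorem exists_tv (h : Hyp H y Θ) {t1 t2 t3 : W} {p1 p2 p3 : W →ₗ[ZMod 2] ZMod 2}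
    (F : Fr H y Θ t1 t2 t3 p1 p2 p3) {c k : T3} (c0 : c ≠ 0) (k0 : k ≠ 0) (hk : dot k c = 0) :
    ∃ k' : T3, (k' ≠ 0 ∧ k' ≠ k ∧ k ≠ 0) ∧ dot k' c = 0 ∧
      St H y (tv t1 t2 t3 c) (pv p1 p2 p3 k) (pv p1 p2 p3 k') := by
  obtain ⟨d, s⟩ := F.st h c0 hk
  have hc : Fr.cd p1 p2 p3 (tv t1 t2 t3 c) = c := F.coord c
  obtain ⟨k', rfl, n1, n2, z⟩ := F.d_eq h (F.mem h c0) (by rw [hc]; exact c0) k0 s
  rw [hc] at z
  exact ⟨k', ⟨n1, n2, k0⟩, z, s⟩

end

/-! ### no light vector in a block -/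

/-- **(4)** `l` is in no block -/
theorem not_mem_blk [Finite W] {l a b p : W} {V : Submodule (ZMod 2) W} (l0 : l ≠ 0) (ly : l ≠ y)
    (sum : l + a + b = y) (ta : ∃ h ∈ H, h l = a) (tb : ∃ h ∈ H, h l = b) (cV : Nat.card V = 16)
    (lV : l ∈ V) (aV : a ∈ V) (pV : p ∈ V) (p0 : p ≠ 0) (py : p ≠ y)
    (CQ : ∀ u, (∀ h ∈ H, (∀ v ∈ V, h v = v) → h u = u) → u ∈ V)
    (np : ∀ h ∈ H, (∀ v ∈ V, h v ∈ V) → h l ≠ p) {X : Submodule (ZMod 2) W} (B : Blk H y X) : l ∉ X := by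
  intro lX
  have B0 := B.base
  have yX := B.y_mem
  obtain ⟨τ, hτ, ea⟩ := ta
  obtain ⟨τ', hτ', eb⟩ := tb
  obtain ⟨a0, ay⟩ := Blk.ne_of B0 hτ l0 ly
  obtain ⟨b0, by'⟩ := Blk.ne_of B0 hτ' l0 ly
  rw [ea] at a0 ay
  rw [eb] at b0 by'
  have eb' : b = l + a + y := by
    linear_combination (norm := module) sum - addself l - addself a
  have al : a ≠ l := by
    rintro rfl
    apply by'
    rw [eb']; linear_combination (norm := module) addself a
  have aly : a ≠ l + y := by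
    rintro rfl
    apply b0
    rw [eb']; linear_combination (norm := module) addself l + addself y
  -- `a ∈ X`
  have aX : a ∈ X := by
    by_contra haX
    have B' := B.map hτ
    have B'' := B.map hτ'
    have aX' : a ∈ X.map (τ : W →ₗ[ZMod 2] W) := ⟨l, lX, ea⟩
    have bX'' : b ∈ X.map (τ' : W →ₗ[ZMod 2] W) := ⟨l, lX, eb⟩
    have hne' : X ≠ X.map (τ : W →ₗ[ZMod 2] W) := by
      intro e; apply haX; rw [e]; exact aX'
    have hne'' : X ≠ X.map (τ' : W →ₗ[ZMod 2] W) := by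
      intro e
      apply haX
      have hb : b ∈ X := by rw [e]; exact bX''
      have : a = l + b + y := by
        linear_combination (norm := module) eb' + sum - sum + addself a - addself b
      rw [this]
      exact X.add_mem (X.add_mem lX hb) yX
    have key : ∃ (θ : W) (f d : W →ₗ[ZMod 2] ZMod 2), θ ∈ X ∧ θ ≠ 0 ∧ θ ≠ y ∧ St H y θ f d ∧ f l = 1 ∧ f y = 0 := by
      obtain ⟨Θ, h, t1, t2, t3, p1, p2, p3, F, rfl⟩ := B
      have hc := F.cd_ne_zero h lX l0 ly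
      obtain ⟨k, c, h1, h2, h3⟩ : ∃ k c : T3, c ≠ 0 ∧ dot k c = 0 ∧ dot k (Fr.cd p1 p2 p3 l) = 1 := by
        have : ∀ u : T3, u ≠ 0 → ∃ k c : T3, c ≠ 0 ∧ dot k c = 0 ∧ dot k u = 1 := by decide
        exact this _ hc
      obtain ⟨d, s⟩ := F.st h h1 h2
      refine ⟨_, _, d, tv_mem_blk y t1 t2 t3 c, h.th0 _ (F.mem h h1), h.thy _ (F.mem h h1), s, ?_, F.p_y h k⟩
      rw [pv_apply]; exact h3
    obtain ⟨θ, f, d, hθ, θ0, θy, s, fl, fy⟩ := key
    have fa := (B.kill B' hne' hθ θ0 θy s aX').1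
    have fb := (B.kill B'' hne'' hθ θ0 θy s bX'').1
    rw [eb', map_add, map_add, fl, fa, fy, add_zero, add_zero] at fb
    exact one_ne_zero fb
  -- `X ≤ V`
  have hXV : X ≤ V := by
    intro x hx
    refine CQ x fun g hg hgV => ?_
    have gl := hgV l lV
    have ga := hgV a aV
    have gy := B0.fix g hg
    have gX : ∀ x ∈ X, g x ∈ X := fun x hx => B.inv_of hg lX l0 ly (by rw [gl]; exact lX) hx
    -- `g x + x` is fixed
    have h2 : ∀ x ∈ X, g (g x) = x := by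
      intro x hx
      have hgx := gX x hx
      suffices h3 : g (g x + x) = g x + x by
        rw [map_add] at h3
        linear_combination (norm := module) h3
      have hs : g x + x ∈ X := X.add_mem hgx hx
      have h4 : g x + x = 0 ∨ g x + x = y ∨ g x + x = l ∨ g x + x = l + y ∨ g x + x = a ∨ g x + x = a + y ∨
          g x + x = l + a ∨ g x + x = l + a + y := by
        obtain ⟨Θ, h, t1, t2, t3, p1, p2, p3, F, rfl⟩ := B
        have cl := F.cd_ne_zero h lX l0 ly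
        have ca := F.cd_ne_zero h aX a0 ay
        have cla : Fr.cd p1 p2 p3 l ≠ Fr.cd p1 p2 p3 a := by
          intro e
          rcases F.eq_or h aX lX e.symm with e1 | e1
          · exact al e1
          · exact aly e1
        obtain ⟨k, k0, kl, ka⟩ := dk1 _ _ ⟨cl, ca, cla⟩
        obtain ⟨c, c0, kc⟩ := dec13 k k0
        obtain ⟨d, s⟩ := F.st h c0 kc
        have s' := h.conj hg s
        have hm : g (tv t1 t2 t3 c) ∈ Θ := h.mem _ (F.mem h c0) g hg
        have hmX : g (tv t1 t2 t3 c) ∈ blk y t1 t2 t3 := gX _ (tv_mem_blk _ _ _ _ _)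
        have hmc := F.cd_ne_zero h hmX (h.th0 _ hm) (h.thy _ hm)
        obtain ⟨k', hk', -⟩ := F.eq_pv h hm hmc s'
        have k'0 : k' ≠ 0 := by
          rintro rfl
          rw [pv_zero] at hk'
          exact tr_ne_zero (F.pv_ne k0) hk'
        have k'l : dot k' (Fr.cd p1 p2 p3 l) = 0 := by
          rw [← kl, ← pv_apply, ← pv_apply, ← hk']
          conv_lhs => rw [← gl]
          rw [tr_ap]
        have k'a : dot k' (Fr.cd p1 p2 p3 a) = 0 := by
          rw [← ka, ← pv_apply, ← pv_apply, ← hk']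
          conv_lhs => rw [← ga]
          rw [tr_ap]
        obtain rfl := dk2 _ _ k ⟨cl, ca, cla⟩ ⟨k0, kl, ka⟩ k' k'0 k'l k'a
        have kx : dot k' (Fr.cd p1 p2 p3 (g x + x)) = 0 := by
          rw [← pv_apply, map_add]
          conv_lhs => rw [← hk']
          rw [tr_ap]
          have : tr g (pv p1 p2 p3 k') x = pv p1 p2 p3 k' x := by rw [hk']
          rw [this]
          exact z2add _
        rcases dk3 _ _ k' ⟨cl, ca, cla⟩ ⟨k0, kl, ka⟩ _ kx with e | e | e | e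
        · by_contra hcon
          push Not at hcon
          exact F.cd_ne_zero h hs hcon.1 hcon.2.1 e
        · rcases F.eq_or h hs lX e with e1 | e1
          · tauto
          · tauto
        · rcases F.eq_or h hs aX e with e1 | e1
          · tauto
          · tauto
        · rw [← Fr.cd_add] at e
          rcases F.eq_or h hs ((blk y t1 t2 t3).add_mem lX aX) e with e1 | e1
          · tauto
          · tauto
      rcases h4 with e | e | e | e | e | e | e | e <;> rw [e] <;> simp only [map_add, map_zero, gl, ga, gy]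
    by_contra hne
    obtain ⟨θ, -, -, -, hfix, -⟩ := B.inv hg gX h2 ⟨x, hx, hne⟩
    rcases (hfix l lX).mp gl with e | e | e | e
    · exact l0 e
    · exact ly e
    · rcases (hfix a aX).mp ga with e' | e' | e' | e'
      · exact a0 e'
      · exact ay e'
      · exact al (e'.trans e.symm)
      · exact aly (by rw [e', e])
    · rcases (hfix a aX).mp ga with e' | e' | e' | e'
      · exact a0 e'
      · exact ay e'
      · apply aly
        rw [e', e, add_assoc, addself, add_zero]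
      · exact al (e'.trans e.symm)
  -- `X = V`
  have hXe : X = V := by
    refine Submodule.toAddSubgroup_injective ?_
    refine AddSubgroup.eq_of_le_of_card_ge hXV ?_
    change Nat.card V ≤ Nat.card X
    rw [cV, B.card]
  subst hXe
  obtain ⟨Θ, h, t1, t2, t3, p1, p2, p3, F, rfl⟩ := id B
  obtain ⟨g, hg, e⟩ := h.trans l (F.blk_mem h lX l0 ly) p (F.blk_mem h pV p0 py)
  exact np g hg (fun v hv => B.inv_of hg lX l0 ly (by rw [e]; exact pV) hv) e

/-! ### the end -/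

/-- conjugation inside `N` -/
theorem conjN {N : Subgroup (W ≃ₗ[ZMod 2] W)} {m : W ≃ₗ[ZMod 2] W} (my : m y = y)
    (mN : ∀ n ∈ N, m * n * m⁻¹ ∈ N) {θ : W} {f d : W →ₗ[ZMod 2] ZMod 2} (s : St N y θ f d) :
    St N y (m θ) (tr m f) (tr m d) := by
  obtain ⟨g, hg, e⟩ := s
  refine ⟨m * g * m⁻¹, mN g hg, fun w => ?_⟩
  change m (g (m⁻¹ w)) = _
  rw [e (m⁻¹ w), map_add, map_add, map_smul, map_smul, my, ap_inv]
  rfl

/-- `tr` of a functional of the block by an element of the block -/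
theorem tr_tv [Finite W] (h : Hyp H y Θ) {t1 t2 t3 : W} {p1 p2 p3 : W →ₗ[ZMod 2] ZMod 2}
    (F : Fr H y Θ t1 t2 t3 p1 p2 p3) {c k k' : T3} (c0 : c ≠ 0) {m : W ≃ₗ[ZMod 2] W} (hm : m ∈ H)
    (em : ∀ w, m w = w + pv p1 p2 p3 k w • tv t1 t2 t3 c + pv p1 p2 p3 k' w • y) (j : T3) :
    tr m (pv p1 p2 p3 j) = pv p1 p2 p3 (j + dot j c • k) := by
  have hinv := h.inv_eq (F.mem h c0) hm em
  ext w
  rw [tr_apply, hinv, em w, map_add, map_add, map_smul, map_smul, F.p_y h, F.pv_tv, pv_add,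
    LinearMap.add_apply, smul_zero, add_zero]
  congr 1
  rcases z2 (dot j c) with e | e <;> rw [e]
  · rw [zero_smul, pv_zero, LinearMap.zero_apply, smul_zero]
  · rw [one_smul, smul_eq_mul, mul_one]

/-- the element fixes every vector which is killed by both functionals -/
theorem fix_of {θ : W} {f d : W →ₗ[ZMod 2] ZMod 2} {m : W ≃ₗ[ZMod 2] W}
    (em : ∀ w, m w = w + f w • θ + d w • y) {w : W} (hf : f w = 0) (hd : d w = 0) : m w = w := by
  rw [em, hf, hd, zero_smul, zero_smul, add_zero, add_zero]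

/-- **THEOREM JZ, (3)-(5)** -/
theorem false_of [Finite W] (b0 : Base H y) {l a b p : W} {N : Subgroup (W ≃ₗ[ZMod 2] W)}
    {V : Submodule (ZMod 2) W} (hN : N ≤ H) (h2 : IsPGroup 2 N) (l0 : l ≠ 0) (ly : l ≠ y)
    (sum : l + a + b = y) (fixl : ∀ n ∈ N, n l = l) (nrm : ∀ h ∈ H, h l = l → ∀ n ∈ N, h * n * h⁻¹ ∈ N)
    (comm : ∀ n ∈ N, n a + a = 0 ∨ n a + a = l ∨ n a + a = y ∨ n a + a = l + y)
    (ta : ∃ h ∈ H, h l = a) (tb : ∃ h ∈ H, h l = b)
    (ea : ∀ h ∈ H, h l = l + y → h a = a → h p = p + a)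
    (eb : ∀ h ∈ H, h l = l + y → h b = b → h p = p + b)
    (cV : Nat.card V = 16) (lV : l ∈ V) (aV : a ∈ V) (pV : p ∈ V) (p0 : p ≠ 0) (py : p ≠ y)
    (CQ : ∀ u, (∀ h ∈ H, (∀ v ∈ V, h v = v) → h u = u) → u ∈ V)
    (np : ∀ h ∈ H, (∀ v ∈ V, h v ∈ V) → h l ≠ p) {g : W ≃ₗ[ZMod 2] W} (hg : g ∈ N) (tvg : IsTv H y g) :
    False := by
  have noblk := fun (X : Submodule (ZMod 2) W) (B : Blk H y X) =>
    not_mem_blk l0 ly sum ta tb cV lV aV pV p0 py CQ np B
  obtain ⟨θ, f, d, θ0, θy, hf, eg, hs⟩ := tvg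
  have h := b0.hyp θ0 θy hs
  have hθ : θ ∈ {ρ | ∃ h ∈ H, h θ = ρ} := ⟨1, H.one_mem, rfl⟩
  obtain ⟨t2, t3, p1, p2, p3, F⟩ := h.exists_fr hθ ⟨g, hN hg, eg⟩ hf
  have Bx : Blk H y (blk y θ t2 t3) := ⟨_, h, _, _, _, _, _, _, F, rfl⟩
  have hθX : θ ∈ blk y θ t2 t3 := by
    have := tv_mem_blk y θ t2 t3 (1, 0, 0)
    simpa [tv] using this
  -- the coordinates of the centre
  have c00 : ((1, 0, 0) : T3) ≠ 0 := by decide
  obtain ⟨c₀, hc₀⟩ : ∃ c₀ : T3, c₀ = (1, 0, 0) := ⟨_, rfl⟩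
  rw [← hc₀] at c00
  have tvθ : tv θ t2 t3 c₀ = θ := by rw [hc₀]; simp [tv]
  have cθ : Fr.cd p1 p2 p3 θ = c₀ := by
    rw [← tvθ]; exact F.coord c₀
  have cθ0 : Fr.cd p1 p2 p3 θ ≠ 0 := by rw [cθ]; exact c00
  have sg : St H y θ f d := ⟨g, hN hg, eg⟩
  obtain ⟨k, rfl, kc⟩ := F.eq_pv h hθ cθ0 sg
  have k0 : k ≠ 0 := by
    rintro rfl
    exact hf (pv_zero _ _ _)
  obtain ⟨k', rfl, k'0, k'k, k'c⟩ := F.d_eq h hθ cθ0 k0 sg
  rw [cθ] at kc k'c
  have py0 : ∀ j, pv p1 p2 p3 j y = 0 := F.p_y h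
  -- **(3)** `cd l ≠ 0`
  have cl0 : Fr.cd p1 p2 p3 l ≠ 0 := by
    intro cl
    have kl : ∀ j, pv p1 p2 p3 j l = 0 := by
      intro j
      rw [pv_apply, show (p1 l, p2 l, p3 l) = (0 : T3) from cl, dot_zero]
    obtain ⟨c', j, e1, e2, e3⟩ := dk4 k c₀ k0 c00 kc
    have c'0 : c' ≠ 0 := by
      rintro rfl
      rw [dot_zero] at e1
      exact zero_ne_one e1
    have j0 : j ≠ 0 := by
      rintro rfl
      rw [zero_dot] at e3
      exact zero_ne_one e3
    obtain ⟨j', -, -, m, hm, em⟩ := exists_tv h F c'0 j0 e2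
    have ml : m l = l := fix_of em (kl _) (kl _)
    have my := h.fix m hm
    obtain ⟨n, hn, en⟩ := conjN my (fun n hn => nrm m hm ml n hn) (⟨g, hg, eg⟩ : St N y θ _ _)
    rw [tr_tv h F c'0 hm em, tr_tv h F c'0 hm em, e1, one_smul] at en
    have mθ : Fr.cd p1 p2 p3 (m θ) = c₀ + c' := by
      rw [em θ, Fr.cd_add, Fr.cd_add, Fr.cd_smul, Fr.cd_smul, F.cd_y h, cθ, pv_apply,
        show (p1 θ, p2 θ, p3 θ) = c₀ from cθ, e3, one_smul, smul_zero, add_zero,
        show Fr.cd p1 p2 p3 (tv θ t2 t3 c') = c' from F.coord c']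
    have cg : ∀ w, Fr.cd p1 p2 p3 (g w) = Fr.cd p1 p2 p3 w + dot k (Fr.cd p1 p2 p3 w) • c₀ := by
      intro w
      rw [eg w, Fr.cd_add, Fr.cd_add, Fr.cd_smul, Fr.cd_smul, F.cd_y h, cθ, pv_apply, smul_zero, add_zero]
    have cn : ∀ w, Fr.cd p1 p2 p3 (n w) =
        Fr.cd p1 p2 p3 w + dot (k + j) (Fr.cd p1 p2 p3 w) • (c₀ + c') := by
      intro w
      rw [en w, Fr.cd_add, Fr.cd_add, Fr.cd_smul, Fr.cd_smul, F.cd_y h, mθ, pv_apply, smul_zero, add_zero]
    have r1 : ∀ w, Fr.cd p1 p2 p3 w = c₀ → Fr.cd p1 p2 p3 ((g * n) w) = c₀ + c' := by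
      intro w hw
      rw [LinearEquiv.mul_apply, cg, cn, hw]
      rw [dadd, kc, e3, zero_add, one_smul]
      have x1 : c₀ + (c₀ + c') = c' := by rw [← add_assoc, t3self, zero_add]
      rw [x1, e1, one_smul, add_comm]
    have r2 : ∀ w, Fr.cd p1 p2 p3 w = c₀ + c' → Fr.cd p1 p2 p3 ((g * n) w) = c' := by
      intro w hw
      rw [LinearEquiv.mul_apply, cg, cn, hw]
      rw [dadd, dadd', dadd', kc, e3, e1, e2]
      have x0 : (0 + 1 + (1 + 0) : ZMod 2) = 0 := rfl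
      rw [x0, zero_smul, add_zero, dadd', kc, e1, zero_add, one_smul]
      rw [add_right_comm, t3self, zero_add]
    have r3 : ∀ w, Fr.cd p1 p2 p3 w = c' → Fr.cd p1 p2 p3 ((g * n) w) = c₀ := by
      intro w hw
      rw [LinearEquiv.mul_apply, cg, cn, hw]
      rw [dadd, e1, e2, add_zero, one_smul]
      have x1 : c' + (c₀ + c') = c₀ := by rw [add_comm, add_assoc, t3self, add_zero]
      rw [x1, kc, zero_smul, add_zero]
    have cyc : ∀ i : ℕ, Fr.cd p1 p2 p3 (((g * n) ^ (3 * i)) θ) = c₀ := by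
      intro i
      induction i with
      | zero => rw [mul_zero, pow_zero]; exact cθ
      | succ i ih =>
        have : (g * n) ^ (3 * (i + 1)) = (g * n) * ((g * n) * ((g * n) * (g * n) ^ (3 * i))) := by
          rw [mul_add, mul_one, add_comm, pow_add]
          rw [pow_succ, pow_succ, pow_one]
          simp only [mul_assoc]
        rw [this]
        exact r3 _ (r2 _ (r1 _ ih))
    obtain ⟨i, hi⟩ := h2 ⟨g * n, N.mul_mem hg hn⟩
    have hi' : (g * n) ^ 2 ^ i = 1 := congrArg Subtype.val hi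
    have c'c : c' ≠ c₀ := by
      rintro rfl
      rw [kc] at e1
      exact zero_ne_one e1
    have hsum : c₀ + c' ≠ c₀ := fun e => c'0 (by simpa using e)
    have hmod : 2 ^ i % 3 = 1 ∨ 2 ^ i % 3 = 2 := by
      clear hi hi'
      induction i with
      | zero => left; rfl
      | succ i ih => rw [pow_succ]; omega
    obtain ⟨q, hq⟩ : ∃ q, 2 ^ i = 3 * q + 1 ∨ 2 ^ i = 1 + (1 + 3 * q) := ⟨2 ^ i / 3, by omega⟩
    have e1' : Fr.cd p1 p2 p3 (((g * n) ^ 2 ^ i) θ) = c₀ := by rw [hi']; exact cθ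
    rcases hq with hq | hq
    · rw [hq, pow_add, pow_one, ← pow_succ, pow_succ'] at e1'
      rw [LinearEquiv.mul_apply] at e1'
      have := r1 _ (cyc q)
      rw [LinearEquiv.mul_apply] at this
      exact hsum (this.symm.trans e1')
    · rw [hq, pow_add, pow_add, pow_one] at e1'
      have := r2 _ (r1 _ (cyc q))
      exact c'c (this.symm.trans e1')
  -- `cd l = c₀`
  have cl : Fr.cd p1 p2 p3 l = c₀ := by
    have e := fixl g hg
    rw [eg l, add_assoc] at e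
    have e1 : pv p1 p2 p3 k l • θ + pv p1 p2 p3 k' l • y = 0 := by simpa using e
    obtain ⟨a1, a2⟩ := indep θ0 θy b0.y0 e1
    rw [pv_apply] at a1 a2
    exact (dec8 c₀ k k' _ ⟨c00, k0, k'0, k'k.symm⟩ ⟨kc, k'c⟩ ⟨a1, a2⟩).resolve_left cl0
  have lX := noblk _ Bx
  -- a vector of `N` with functional `k₁` kills `a`
  have kill : ∀ (θ' : W) (j : T3) (d' : W →ₗ[ZMod 2] ZMod 2), (θ' = θ ∨ θ' = θ + y) →
      St N y θ' (pv p1 p2 p3 j) d' → dot j (Fr.cd p1 p2 p3 a) = 0 := by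
    rintro θ' j d' hθ' ⟨n, hn, en⟩
    refine (z2 _).resolve_right fun e1 => ?_
    have e2 := en a
    rw [pv_apply, show (p1 a, p2 a, p3 a) = Fr.cd p1 p2 p3 a from rfl, e1, one_smul] at e2
    have e3 : n a + a = θ' + d' a • y := by
      rw [e2]; linear_combination (norm := module) addself a
    have hθ'X : θ' ∈ blk y θ t2 t3 := by
      rcases hθ' with rfl | rfl
      · exact hθX
      · exact Submodule.add_mem _ hθX (y_mem_blk _ _ _ _)
    have hθ'0 : θ' ≠ 0 := by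
      rcases hθ' with rfl | rfl
      · exact θ0
      · exact fun e => θy (eq_of_add_eq_zero' e)
    have hθ'y : θ' ≠ y := by
      rcases hθ' with rfl | rfl
      · exact θy
      · intro e
        apply θ0
        simpa using e
    rcases comm n hn with e | e | e | e
    · rw [e3] at e
      rcases z2 (d' a) with e4 | e4 <;> rw [e4] at e
      · apply hθ'0; simpa using e
      · rw [one_smul] at e
        exact hθ'y (eq_of_add_eq_zero' e)
    · apply lX
      rw [← e, e3]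
      exact Submodule.add_mem _ hθ'X (Submodule.smul_mem _ _ (y_mem_blk _ _ _ _))
    · rw [e3] at e
      rcases z2 (d' a) with e4 | e4 <;> rw [e4] at e
      · apply hθ'y; simpa using e
      · rw [one_smul] at e
        apply hθ'0; simpa using e
    · apply lX
      have : l = θ' + d' a • y + y := by
        rw [← e3, e, add_assoc, addself, add_zero]
      rw [this]
      exact Submodule.add_mem _ (Submodule.add_mem _ hθ'X (Submodule.smul_mem _ _ (y_mem_blk _ _ _ _)))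
        (y_mem_blk _ _ _ _)
  have ka := kill θ k _ (Or.inl rfl) ⟨g, hg, eg⟩
  -- the rotation
  obtain ⟨k₁, k₁0, k₁k, k₁c⟩ := dk5 k c₀ c00
  have ka₁ : dot k₁ (Fr.cd p1 p2 p3 a) = 0 := by
    obtain ⟨c₁, x1, x2⟩ := dec9 k₁ k ⟨k₁0, k0, k₁k⟩ 0 1
    obtain ⟨c₂, z1, z2'⟩ := dec9 k k₁ ⟨k0, k₁0, k₁k.symm⟩ 0 1
    have c₁0 : c₁ ≠ 0 := by
      rintro rfl
      rw [dot_zero] at x2
      exact zero_ne_one x2
    have c₂0 : c₂ ≠ 0 := by
      rintro rfl
      rw [dot_zero] at z2'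
      exact zero_ne_one z2'
    have c₁c : c₁ ≠ c₀ := by
      rintro rfl
      rw [kc] at x2
      exact zero_ne_one x2
    have c₂c : c₂ ≠ c₀ := by
      rintro rfl
      rw [k₁c] at z2'
      exact zero_ne_one z2'
    obtain ⟨j₁, q1, w1, m₁, hm₁, em₁⟩ := exists_tv h F c₁0 k₁0 x1
    obtain ⟨j₂, q2, w2, m₂, hm₂, em₂⟩ := exists_tv h F c₂0 k0 z1
    have v1 := dec7 c₀ c₁ k₁ j₁ ⟨c00, c₁0, c₁c⟩ ⟨x1, k₁c⟩ q1 w1
    have v2 := dec7 c₀ c₂ k j₂ ⟨c00, c₂0, c₂c⟩ ⟨z1, kc⟩ q2 w2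
    have m1y := h.fix m₁ hm₁
    have m2y := h.fix m₂ hm₂
    have sw1 : ∀ w, Fr.cd p1 p2 p3 w = c₀ → m₁ w = w + y := by
      intro w hw
      rw [em₁ w, pv_apply, pv_apply, show (p1 w, p2 w, p3 w) = c₀ from hw, k₁c, v1, zero_smul, one_smul,
        add_zero]
    have sw2 : ∀ w, Fr.cd p1 p2 p3 w = c₀ → m₂ w = w + y := by
      intro w hw
      rw [em₂ w, pv_apply, pv_apply, show (p1 w, p2 w, p3 w) = c₀ from hw, kc, v2, zero_smul, one_smul,
        add_zero]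
    have sw : ∀ w, Fr.cd p1 p2 p3 w = c₀ → (m₂ * m₁) w = w := by
      intro w hw
      rw [LinearEquiv.mul_apply, sw1 w hw, map_add, m2y, sw2 w hw, add_assoc, addself, add_zero]
    have hm : m₂ * m₁ ∈ H := H.mul_mem hm₂ hm₁
    have s1 := conjN (h.fix _ hm) (fun n hn => nrm _ hm (sw l cl) n hn) (⟨g, hg, eg⟩ : St N y θ _ _)
    rw [sw θ cθ] at s1
    have e1 : tr (m₂ * m₁) (pv p1 p2 p3 k) = pv p1 p2 p3 k₁ := by
      have : tr (m₂ * m₁) (pv p1 p2 p3 k) = tr m₂ (tr m₁ (pv p1 p2 p3 k)) := by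
        ext w
        rw [tr_apply, tr_apply, tr_apply, mul_inv_rev, LinearEquiv.mul_apply]
      rw [this, tr_tv h F c₁0 hm₁ em₁, tr_tv h F c₂0 hm₂ em₂, x2, one_smul, dadd, z1, z2', zero_add, one_smul,
        add_right_comm, t3self, zero_add]
    rw [e1] at s1
    exact kill θ k₁ _ (Or.inl rfl) s1
  -- `cd a = 0` or `cd a = c₀`
  have hca := dec8 c₀ k k₁ _ ⟨c00, k0, k₁0, k₁k.symm⟩ ⟨kc, k₁c⟩ ⟨ka, ka₁⟩
  -- the swap
  obtain ⟨j, c', j0, c'0, c'c, jc', jc⟩ := dk6 c₀ c00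
  obtain ⟨j', q, w, s, hs', es⟩ := exists_tv h F c'0 j0 jc'
  have v := dec7 c₀ c' j j' ⟨c00, c'0, c'c⟩ ⟨jc', jc⟩ q w
  have sl : s l = l + y := by
    rw [es l, pv_apply, pv_apply, show (p1 l, p2 l, p3 l) = c₀ from cl, jc, v, zero_smul, one_smul, add_zero]
  have fin : ∀ w₀ : W, w₀ ≠ 0 → w₀ ≠ y → Fr.cd p1 p2 p3 w₀ = 0 → (s w₀ = w₀ → s p = p + w₀) → False := by
    intro w₀ n0 ny hc hp
    have kz : ∀ i, pv p1 p2 p3 i w₀ = 0 := by
      intro i
      rw [pv_apply, show (p1 w₀, p2 w₀, p3 w₀) = (0 : T3) from hc, dot_zero]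
    have hp' := hp (fix_of es (kz _) (kz _))
    have e1 : w₀ = pv p1 p2 p3 j p • tv θ t2 t3 c' + pv p1 p2 p3 j' p • y := by
      have e2 := hp'.symm.trans (es p)
      rw [add_assoc] at e2
      exact add_left_cancel e2
    have e3 := congrArg (Fr.cd p1 p2 p3) e1
    rw [hc, Fr.cd_add, Fr.cd_smul, Fr.cd_smul, F.cd_y h, smul_zero, add_zero,
      show Fr.cd p1 p2 p3 (tv θ t2 t3 c') = c' from F.coord c'] at e3
    rw [dk7 _ c' c'0 e3.symm, zero_smul, zero_add] at e1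
    rcases z2 (pv p1 p2 p3 j' p) with e4 | e4 <;> rw [e4] at e1
    · exact n0 (by simpa using e1)
    · exact ny (by simpa using e1)
  obtain ⟨τ, hτ, eτ⟩ := ta
  obtain ⟨τ', hτ', eτ'⟩ := tb
  obtain ⟨a0, ay⟩ := Blk.ne_of b0 hτ l0 ly
  obtain ⟨b0', by'⟩ := Blk.ne_of b0 hτ' l0 ly
  rw [eτ] at a0 ay
  rw [eτ'] at b0' by'
  rcases hca with e | e
  · exact fin a a0 ay e (ea s hs' sl)
  · have eb' : b = l + a + y := by
      linear_combination (norm := module) sum - addself l - addself a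
    refine fin b b0' by' ?_ (eb s hs' sl)
    rw [eb', Fr.cd_add, Fr.cd_add, F.cd_y h, e, cl, t3self, add_zero]

end Cfsg.Agent.Omega.NO3S.JZ.BlkEnd
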