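import Cfsg.Agent.Omega.NO3b.Closed.Trace
import Cfsg.Agent.Omega.ML.GMod

/-!
# THEOREM JZ (helper582, bb OMEGA #26032): the group half (0), (1), (2)

`C = C_G(z)`, `S ∈ Syl₂(C)`, `z, a ∈ F ≤ V ≤ U = ⟨V^C⟩` elementary abelian, `W = ⟨a^C⟩⟨z⟩`, `S` fixes `a` modulo `z`,
`C_U(S) = ⟨z⟩`.

* `GF` : the setting;
* `GF.cent_F` : `C_G(F) ≤ C_G(V)`;
* `GF.norm_F` : `N_C(F) ≤ N_G(V)`;
* `N0` : `C_C(W / z)`;
* `GF.q_cent` : `O₂(C) ≤ C(V)` implies `O₂(C) ≤ C(U)`;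
* `GF.core` : `R ⊴ C`, `R N₀ / N₀` a 2-group: `R ≤ N₀`;
* `GF.inf_cent` : `O ∩ N₀ ≤ C(U)`, `O = O₂(C_G(a, z))`;
* `GF.exact` : `A ∈ 𝒜(O)`: `U = W C_U(A)`, and `A` is exact on `U`, `W`, `W / z`;
* `GF.dich` : `A ≤ C(U)` or `N₀ ≤ C(U)`.
-/

set_option autoImplicit false
set_option linter.unusedSectionVars false

namespace Cfsg.Agent.Omega.NO3S.JZ

open Subgroup Cfsg Cfsg.Agent.ZN Cfsg.Agent.ZN.ChoiceBase Cfsg.Agent.Omega.ML.Final
open Cfsg.Agent.Omega.ML.GMod (not_dvd_inf exists_frattini normalizer_le_normalizer_o2 nc ri_mono ri_ne)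
open Cfsg.Agent.MinSimple.VModule (o2_isPGroup o2_le le_o2 le_normalizer_o2)

universe u

variable {G : Type u} [Group G] [Finite G]

/-- the setting of THEOREM JZ -/
structure GF (z a : G) (S V F U W : Subgroup G) : Prop where
  S2 : IsPGroup 2 S
  SC : S ≤ centralizer ({z} : Set G)
  syl : ¬ 2 ∣ S.relIndex (centralizer ({z} : Set G))
  SV : S ≤ normalizer (V : Set G)
  SF : S ≤ normalizer (F : Set G)
  zF : z ∈ F
  aF : a ∈ F
  FV : F ≤ V
  VU : V ≤ U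
  CU : centralizer ({z} : Set G) ≤ normalizer (U : Set G)
  Uc : ∀ x ∈ U, ∀ y ∈ U, x * y = y * x
  Usq : ∀ x ∈ U, x * x = 1
  Ugen : ∀ X : Subgroup G, V ≤ X → centralizer ({z} : Set G) ≤ normalizer (X : Set G) → U ≤ X
  CW : centralizer ({z} : Set G) ≤ normalizer (W : Set G)
  FW : F ≤ W
  WU : W ≤ U
  Wgen : ∀ X : Subgroup G, a ∈ X → z ∈ X → centralizer ({z} : Set G) ≤ normalizer (X : Set G) → W ≤ X
  fixU : ∀ u ∈ U, (∀ s ∈ S, s * u = u * s) → u = 1 ∨ u = z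
  fixQ : U ⊓ centralizer ((S ⊓ centralizer (V : Set G) : Subgroup G) : Set G) ≤ V
  faith : S ⊓ centralizer (F : Set G) ≤ centralizer (V : Set G)
  fixa : ∀ s ∈ S, s * a * s⁻¹ = a ∨ s * a * s⁻¹ = a * z

/-! ### Tools -/

section tools

omit [Finite G]

theorem cz {z g : G} : g ∈ centralizer ({z} : Set G) ↔ g * z = z * g := by
  rw [mem_centralizer_singleton_iff]

theorem cz_conj {z g : G} (h : g ∈ centralizer ({z} : Set G)) : g * z * g⁻¹ = z := by
  rw [cz.1 h]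
  group

theorem nm {H : Subgroup G} {g x : G} (h : g ∈ normalizer (H : Set G)) (hx : x ∈ H) : g * x * g⁻¹ ∈ H :=
  (mem_normalizer_iff.1 h x).1 hx

theorem cent_mono_norm (V : Subgroup G) : centralizer (V : Set G) ≤ normalizer (V : Set G) := by
  intro g hg
  rw [mem_normalizer_iff_cj]
  ext x
  rw [mem_cj]
  constructor
  · intro h
    have h1 := mem_centralizer_iff.1 hg _ h
    have h2 : g⁻¹ * x * g = x := by
      have h3 : g⁻¹ * x * g * g = g * (g⁻¹ * x * g) := h1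
      have h4 : g * (g⁻¹ * x * g) = x * g := by group
      rw [h4] at h3
      exact mul_right_cancel h3
    rwa [h2] at h
  · intro h
    have h1 := mem_centralizer_iff.1 hg _ h
    have h2 : g⁻¹ * x * g = x := by
      rw [mul_assoc, h1]
      group
    rwa [h2]

/-- `C_C(W / z)` -/
def N0 (z : G) (W : Subgroup G) : Subgroup G where
  carrier := {g | g ∈ centralizer ({z} : Set G) ∧ ∀ w ∈ W, g * w * g⁻¹ * w⁻¹ ∈ zpowers z}
  mul_mem' := by
    rintro g h ⟨hg, hg'⟩ ⟨hh, hh'⟩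
    refine ⟨mul_mem hg hh, fun w hw => ?_⟩
    have e : g * h * w * (g * h)⁻¹ * w⁻¹ = g * (h * w * h⁻¹ * w⁻¹) * g⁻¹ * (g * w * g⁻¹ * w⁻¹) := by group
    rw [e]
    refine mul_mem ?_ (hg' w hw)
    obtain ⟨k, hk⟩ := mem_zpowers_iff.1 (hh' w hw)
    rw [← hk]
    have h1 : g * z ^ k * g⁻¹ = z ^ k := by
      have h2 : (g * z * g⁻¹) ^ k = g * z ^ k * g⁻¹ := by rw [conj_zpow]
      rw [← h2, cz_conj hg]
    rw [h1]
    exact zpow_mem (mem_zpowers z) k
  one_mem' := ⟨one_mem _, fun w _ => by simp⟩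
  inv_mem' := by
    rintro g ⟨hg, hg'⟩
    refine ⟨inv_mem hg, fun w hw => ?_⟩
    have e : g⁻¹ * w * g⁻¹⁻¹ * w⁻¹ = g⁻¹ * (g * w * g⁻¹ * w⁻¹)⁻¹ * g := by group
    rw [e]
    obtain ⟨k, hk⟩ := mem_zpowers_iff.1 (inv_mem (hg' w hw))
    rw [← hk]
    have h1 : g⁻¹ * z ^ k * g = z ^ k := by
      have h2 : (g⁻¹ * z * g⁻¹⁻¹) ^ k = g⁻¹ * z ^ k * g⁻¹⁻¹ := by rw [conj_zpow]
      rw [cz_conj (inv_mem hg), inv_inv] at h2
      exact h2.symm
    rw [h1]
    exact zpow_mem (mem_zpowers z) k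

theorem mem_N0 {z g : G} {W : Subgroup G} :
    g ∈ N0 z W ↔ g ∈ centralizer ({z} : Set G) ∧ ∀ w ∈ W, g * w * g⁻¹ * w⁻¹ ∈ zpowers z := Iff.rfl

theorem N0_le (z : G) (W : Subgroup G) : N0 z W ≤ centralizer ({z} : Set G) := fun _ h => h.1

theorem zp_norm {z g : G} (hg : g ∈ centralizer ({z} : Set G)) {x : G} (hx : x ∈ zpowers z) :
    g * x * g⁻¹ ∈ zpowers z := by
  obtain ⟨k, rfl⟩ := mem_zpowers_iff.1 hx
  have h2 : (g * z * g⁻¹) ^ k = g * z ^ k * g⁻¹ := by rw [conj_zpow]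
  rw [← h2, cz_conj hg]
  exact zpow_mem (mem_zpowers z) k

theorem C_le_zp (z : G) : centralizer ({z} : Set G) ≤ normalizer ((zpowers z : Subgroup G) : Set G) := by
  intro g hg
  rw [mem_normalizer_iff]
  intro x
  refine ⟨fun h => zp_norm hg h, fun h => ?_⟩
  have h1 := zp_norm (inv_mem hg) h
  have h2 : g⁻¹ * (g * x * g⁻¹) * g⁻¹⁻¹ = x := by group
  rwa [h2] at h1

theorem C_le_N0 {z : G} {W : Subgroup G} (hW : centralizer ({z} : Set G) ≤ normalizer (W : Set G)) :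
    centralizer ({z} : Set G) ≤ normalizer (N0 z W : Set G) := by
  have key : ∀ g ∈ centralizer ({z} : Set G), ∀ x ∈ N0 z W, g * x * g⁻¹ ∈ N0 z W := by
    intro g hg x hx
    refine ⟨mul_mem (mul_mem hg hx.1) (inv_mem hg), fun w hw => ?_⟩
    have h1 := hx.2 _ (nm (hW (inv_mem hg)) hw)
    have h2 := zp_norm hg h1
    have e : g * (x * (g⁻¹ * w * g⁻¹⁻¹) * x⁻¹ * (g⁻¹ * w * g⁻¹⁻¹)⁻¹) * g⁻¹ =
        g * x * g⁻¹ * w * (g * x * g⁻¹)⁻¹ * w⁻¹ := by group
    rwa [e] at h2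
  intro g hg
  rw [mem_normalizer_iff]
  intro x
  refine ⟨fun h => key g hg x h, fun h => ?_⟩
  have h1 := key g⁻¹ (inv_mem hg) _ h
  have h2 : g⁻¹ * (g * x * g⁻¹) * g⁻¹⁻¹ = x := by group
  rwa [h2] at h1

end tools

namespace GF

variable {z a : G} {S V F U W : Subgroup G} (h : GF z a S V F U W)
include h

theorem CF_le : centralizer (F : Set G) ≤ centralizer ({z} : Set G) :=
  centralizer_le (Set.singleton_subset_iff.2 h.zF)

theorem zU : z ∈ U := h.VU (h.FV h.zF)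

theorem aU : a ∈ U := h.VU (h.FV h.aF)

theorem aW : a ∈ W := h.FW h.aF

theorem zW : z ∈ W := h.FW h.zF

theorem zsq : z * z = 1 := h.Usq _ h.zU

/-- `⟨z⟩ = {1, z}` -/
theorem mem_zp {x : G} (hx : x ∈ zpowers z) : x = 1 ∨ x = z := by
  obtain ⟨k, rfl⟩ := mem_zpowers_iff.1 hx
  have hz2 : z ^ (2 : ℤ) = 1 := by
    rw [zpow_ofNat, pow_two]
    exact h.zsq
  rcases Int.even_or_odd' k with ⟨m, rfl | rfl⟩
  · left
    rw [zpow_mul, hz2, one_zpow]
  · right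
    rw [zpow_add, zpow_mul, hz2, one_zpow, one_mul, zpow_one]

/-- **(0a)** -/
theorem cent_F : centralizer (F : Set G) ≤ centralizer (V : Set G) := by
  have hSX : S ≤ normalizer (centralizer (F : Set G) : Set G) := h.SF.trans (nc F)
  have hXU := h.CF_le.trans h.CU
  have hodd : ¬ 2 ∣ (S ⊓ centralizer (F : Set G)).relIndex (centralizer (F : Set G)) := by
    have h1 : ¬ 2 ∣ S.relIndex (S ⊔ centralizer (F : Set G) : Subgroup G) := fun h2 =>
      h.syl (h2.trans (Dvd.intro _ (relIndex_mul_relIndex S (S ⊔ centralizer (F : Set G)) _ le_sup_left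
        (sup_le h.SC h.CF_le))))
    have h2 := not_dvd_inf (N := centralizer (F : Set G)) (le_sup_left (a := S) (b := centralizer (F : Set G))) h1
      le_sup_right (sup_le hSX le_normalizer)
    rwa [inf_comm] at h2
  have key := NO3b.ClosedPt.trace (W := U) (X := centralizer (F : Set G)) (T := S) h.Uc h.Usq hXU h.S2
    (h.SC.trans h.CU) hSX hodd fun w hw hf x hx => by
      rcases h.fixU w hw hf with rfl | rfl
      · simp
      · exact (mem_centralizer_iff.1 hx _ h.zF).symm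
  intro x hx
  rw [mem_centralizer_iff]
  intro v hv
  refine (key v (h.VU hv) (fun t ht => ?_) x hx).symm
  exact (mem_centralizer_iff.1 (h.faith ht) v hv).symm

theorem cent_eq : centralizer (F : Set G) = centralizer (V : Set G) :=
  le_antisymm h.cent_F (centralizer_le h.FV)

/-- **(0b)** -/
theorem norm_F : normalizer (F : Set G) ⊓ centralizer ({z} : Set G) ≤ normalizer (V : Set G) := by
  intro x hx
  -- Frattini over `C_G(F)`
  have hS : S ≤ normalizer (F : Set G) ⊓ centralizer ({z} : Set G) := le_inf h.SF h.SC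
  have hodd : ¬ 2 ∣ S.relIndex (normalizer (F : Set G) ⊓ centralizer ({z} : Set G)) := fun h2 =>
    h.syl (h2.trans (Dvd.intro _ (relIndex_mul_relIndex S _ _ hS inf_le_right)))
  obtain ⟨l, hl, n, hn, rfl⟩ := exists_frattini hS h.S2 hodd (inf_le_left.trans (nc F)) hx
  rw [h.cent_eq] at hl hn
  refine mul_mem (cent_mono_norm V hl) ?_
  have hnU := h.CU hn.1.2
  have e : V = U ⊓ centralizer ((S ⊓ centralizer (V : Set G) : Subgroup G) : Set G) := by
    refine le_antisymm (le_inf h.VU ?_) h.fixQ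
    rw [← le_centralizer_iff]
    exact inf_le_right
  rw [e]
  exact inf_normalizer_le_normalizer_inf ⟨hnU, nc _ hn.2⟩

/-- `O₂(C) ≤ C(V)` implies `O₂(C) ≤ C(U)` -/
theorem cent_U {R : Subgroup G} (hR : centralizer ({z} : Set G) ≤ normalizer (R : Set G))
    (hV : R ≤ centralizer (V : Set G)) : R ≤ centralizer (U : Set G) := by
  rw [le_centralizer_iff]
  exact h.Ugen _ (le_centralizer_iff.1 hV) (hR.trans (nc R))

/-- a set of elements of `C`, closed under conjugation in `C`, fixing `a` modulo `z` -/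
theorem sub_N0 (R : Set G) (hRC : ∀ r ∈ R, r ∈ centralizer ({z} : Set G))
    (hR : ∀ c ∈ centralizer ({z} : Set G), ∀ r ∈ R, c * r * c⁻¹ ∈ R)
    (ha : ∀ r ∈ R, r * a * r⁻¹ * a⁻¹ ∈ zpowers z) : ∀ r ∈ R, r ∈ N0 z W := by
  let X : Subgroup G :=
    { carrier := {w | w ∈ W ∧ ∀ r ∈ R, r * w * r⁻¹ * w⁻¹ ∈ zpowers z}
      mul_mem' := by
        rintro v w ⟨hv, hv'⟩ ⟨hw, hw'⟩
        refine ⟨mul_mem hv hw, fun r hr => ?_⟩
        have e : r * (v * w) * r⁻¹ * (v * w)⁻¹ = r * v * r⁻¹ * (r * w * r⁻¹ * w⁻¹) * v⁻¹ := by group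
        rw [e]
        have hc : r * w * r⁻¹ * w⁻¹ ∈ U := (zpowers_le.2 h.zU) (hw' r hr)
        have hv1 : r * v * r⁻¹ ∈ U := h.WU (nm (h.CW (hRC r hr)) hv)
        rw [h.Uc _ hv1 _ hc, mul_assoc]
        exact mul_mem (hw' r hr) (hv' r hr)
      one_mem' := ⟨one_mem _, fun r _ => by simp⟩
      inv_mem' := by
        rintro v ⟨hv, hv'⟩
        refine ⟨inv_mem hv, fun r hr => ?_⟩
        have e : v⁻¹ = v := inv_eq_of_mul_eq_one_right (h.Usq _ (h.WU hv))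
        rw [e]
        exact hv' r hr }
  have hX : W ≤ X := by
    refine h.Wgen X ⟨h.aW, ha⟩ ⟨h.zW, fun r hr => ?_⟩ ?_
    · rw [cz_conj (hRC r hr), mul_inv_cancel]
      exact one_mem _
    · have key : ∀ g ∈ centralizer ({z} : Set G), ∀ w ∈ X, g * w * g⁻¹ ∈ X := by
        rintro g hg w ⟨hw, hw'⟩
        refine ⟨nm (h.CW hg) hw, fun r hr => ?_⟩
        have h1 := hw' _ (hR g⁻¹ (inv_mem hg) r hr)
        have h2 := zp_norm hg h1
        have e : g * (g⁻¹ * r * g⁻¹⁻¹ * w * (g⁻¹ * r * g⁻¹⁻¹)⁻¹ * w⁻¹) * g⁻¹ =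
            r * (g * w * g⁻¹) * r⁻¹ * (g * w * g⁻¹)⁻¹ := by group
        rwa [e] at h2
      intro g hg
      rw [mem_normalizer_iff]
      intro x
      refine ⟨fun h => key g hg x h, fun h => ?_⟩
      have h1 := key g⁻¹ (inv_mem hg) _ h
      have h2 : g⁻¹ * (g * x * g⁻¹) * g⁻¹⁻¹ = x := by group
      rwa [h2] at h1
  exact fun r hr => ⟨hRC r hr, fun w hw => (hX hw).2 r hr⟩

theorem le_N0 {R : Subgroup G} (hRC : R ≤ centralizer ({z} : Set G))
    (hR : centralizer ({z} : Set G) ≤ normalizer (R : Set G))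
    (ha : ∀ r ∈ R, r * a * r⁻¹ * a⁻¹ ∈ zpowers z) : R ≤ N0 z W :=
  h.sub_N0 (R : Set G) (fun _ hr => hRC hr) (fun _ hc _ hr => nm (hR hc) hr) ha

/-- **the image of `C` on `W / z` is core-free** -/
theorem core {R : Subgroup G} (hRC : R ≤ centralizer ({z} : Set G))
    (hR : centralizer ({z} : Set G) ≤ normalizer (R : Set G))
    (h2 : ∀ x ∈ R, ∃ n : ℕ, x ^ 2 ^ n ∈ N0 z W) : R ≤ N0 z W := by
  have hN := C_le_N0 h.CW
  -- `R = (R ∩ S)(R ∩ N₀)`
  set K : Subgroup G := R ⊓ N0 z W with hK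
  have hKR : K ≤ R := inf_le_left
  have hRK : R ≤ normalizer (K : Set G) :=
    (le_inf le_normalizer (hRC.trans hN)).trans inf_normalizer_le_normalizer_inf
  set T : Subgroup G := R ⊓ S with hT
  have hodd : ¬ 2 ∣ T.relIndex R := not_dvd_inf h.SC h.syl hRC hR
  have hTK : T ⊔ K ≤ R := sup_le inf_le_left hKR
  have h3 : ¬ 2 ∣ (T ⊔ K).relIndex R := fun h4 =>
    hodd (h4.trans (Dvd.intro_left _ (relIndex_mul_relIndex T (T ⊔ K) R le_sup_left hTK)))
  have hn : (K.subgroupOf R).Normal := normal_subgroupOf_of_le_normalizer hRK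
  have h4 : IsPGroup 2 (R ⧸ K.subgroupOf R) := by
    intro x
    obtain ⟨x, rfl⟩ := QuotientGroup.mk_surjective x
    obtain ⟨n, hn⟩ := h2 x x.2
    refine ⟨n, ?_⟩
    rw [← QuotientGroup.mk_pow, QuotientGroup.eq_one_iff]
    exact ⟨pow_mem x.2 _, hn⟩
  have h5 : T ⊔ K = R := by
    refine le_antisymm hTK ?_
    obtain ⟨n, hn⟩ := (IsPGroup.iff_card (p := 2)).1 h4
    have h6 : K.relIndex R = 2 ^ n := hn
    have h7 : (T ⊔ K).relIndex R ∣ 2 ^ n := by
      rw [← h6]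
      exact Dvd.intro_left _ (relIndex_mul_relIndex K (T ⊔ K) R le_sup_right hTK)
    obtain ⟨m, -, hm⟩ := (Nat.dvd_prime_pow Nat.prime_two).1 h7
    rw [← relIndex_eq_one, hm]
    rcases m with _ | m
    · rfl
    · exact absurd (hm ▸ Dvd.intro_left _ (pow_succ 2 m).symm) h3
  refine h.le_N0 hRC hR fun r hr => ?_
  have hr' : r ∈ ((T ⊔ K : Subgroup G) : Set G) := by
    rw [h5]
    exact hr
  rw [coe_mul_of_left_le_normalizer_right T K (inf_le_left.trans hRK)] at hr'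
  obtain ⟨t, ht, k, hk, rfl⟩ := hr'
  have h6 := hk.2.2 a h.aW
  have h7 : t * a * t⁻¹ * a⁻¹ ∈ zpowers z := by
    rcases h.fixa t ht.2 with h8 | h8
    · rw [h8, mul_inv_cancel]
      exact one_mem _
    · rw [h8, h.Uc _ h.aU _ h.zU, mul_inv_cancel_right]
      exact mem_zpowers z
  have e : t * k * a * (t * k)⁻¹ * a⁻¹ = t * (k * a * k⁻¹ * a⁻¹) * t⁻¹ * (t * a * t⁻¹ * a⁻¹) := by group
  change t * k * a * (t * k)⁻¹ * a⁻¹ ∈ zpowers z
  rw [e]
  exact mul_mem (zp_norm (h.SC ht.2) h6) h7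

/-! ### (1) -/

/-- `D = C_G(a, z)` -/
theorem U_le_D : U ≤ centralizer ({a} : Set G) ⊓ centralizer ({z} : Set G) := fun _ hu =>
  ⟨cz.2 (h.Uc _ hu _ h.aU), cz.2 (h.Uc _ hu _ h.zU)⟩

theorem U_le_O : U ≤ o2 (centralizer ({a} : Set G) ⊓ centralizer ({z} : Set G)) := by
  refine le_o2 h.U_le_D ?_ (inf_le_right.trans h.CU)
  intro x
  exact ⟨1, Subtype.ext (by rw [pow_one, pow_two]; exact h.Usq _ x.2)⟩

/-- an element of `C` fixing `a` modulo `z` normalises `D` -/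
theorem norm_D {g : G} (hg : g ∈ centralizer ({z} : Set G)) (ha : g * a * g⁻¹ * a⁻¹ ∈ zpowers z) :
    g ∈ normalizer ((centralizer ({a} : Set G) ⊓ centralizer ({z} : Set G) : Subgroup G) : Set G) := by
  have key : ∀ g ∈ centralizer ({z} : Set G), g * a * g⁻¹ * a⁻¹ ∈ zpowers z →
      ∀ x ∈ centralizer ({a} : Set G) ⊓ centralizer ({z} : Set G),
        g⁻¹ * x * g ∈ centralizer ({a} : Set G) ⊓ centralizer ({z} : Set G) := by
    intro g hg ha x hx
    refine mem_inf.2 ⟨?_, mul_mem (mul_mem (inv_mem hg) (mem_inf.1 hx).2) hg⟩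
    have h1 : x * (g * a * g⁻¹) = (g * a * g⁻¹) * x := by
      have h2 : g * a * g⁻¹ = (g * a * g⁻¹ * a⁻¹) * a := by group
      rw [h2]
      rcases h.mem_zp ha with h3 | h3
      · rw [h3, one_mul]
        exact cz.1 hx.1
      · rw [h3, ← mul_assoc, cz.1 hx.2, mul_assoc, cz.1 hx.1, mul_assoc]
    rw [cz]
    calc g⁻¹ * x * g * a = g⁻¹ * (x * (g * a * g⁻¹)) * g := by group
      _ = a * (g⁻¹ * x * g) := by rw [h1]; group
  have hinv : g⁻¹ * a * g⁻¹⁻¹ * a⁻¹ ∈ zpowers z := by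
    have h1 := zp_norm (inv_mem hg) (inv_mem ha)
    have e : g⁻¹ * (g * a * g⁻¹ * a⁻¹)⁻¹ * g⁻¹⁻¹ = g⁻¹ * a * g⁻¹⁻¹ * a⁻¹ := by group
    rwa [e] at h1
  rw [mem_normalizer_iff'']
  intro x
  refine ⟨fun hx => key g hg ha x hx, fun hx => ?_⟩
  have h1 := key g⁻¹ (inv_mem hg) hinv _ hx
  have e : g⁻¹⁻¹ * (g⁻¹ * x * g) * g⁻¹ = x := by group
  rwa [e] at h1

theorem norm_O {g : G} (hg : g ∈ centralizer ({z} : Set G)) (ha : g * a * g⁻¹ * a⁻¹ ∈ zpowers z) :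
    g ∈ normalizer (o2 (centralizer ({a} : Set G) ⊓ centralizer ({z} : Set G)) : Set G) :=
  normalizer_le_normalizer_o2 _ (h.norm_D hg ha)

/-- `O ∩ N₀ ≤ O₂(C)` -/
theorem inf_le_q : o2 (centralizer ({a} : Set G) ⊓ centralizer ({z} : Set G)) ⊓ N0 z W ≤
    o2 (centralizer ({z} : Set G)) := by
  set D : Subgroup G := centralizer ({a} : Set G) ⊓ centralizer ({z} : Set G) with hD
  have h1 : o2 D ⊓ N0 z W ≤ o2 (N0 z W ⊓ D) := by
    refine le_o2 (le_inf inf_le_right (inf_le_left.trans (o2_le D))) ((o2_isPGroup D).to_le inf_le_left) ?_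
    exact (le_inf (inf_le_right.trans (le_normalizer_o2 D)) (inf_le_left.trans le_normalizer)).trans
      inf_normalizer_le_normalizer_inf
  have h2 : N0 z W ≤ normalizer ((N0 z W ⊓ D : Subgroup G) : Set G) := by
    refine (le_inf le_normalizer ?_).trans inf_normalizer_le_normalizer_inf
    exact fun g hg => h.norm_D hg.1 (hg.2 a h.aW)
  have h3 : o2 (N0 z W ⊓ D) ≤ o2 (N0 z W) :=
    le_o2 ((o2_le _).trans inf_le_left) (o2_isPGroup _) (h2.trans (normalizer_le_normalizer_o2 _))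
  have h4 : o2 (N0 z W) ≤ o2 (centralizer ({z} : Set G)) :=
    le_o2 ((o2_le _).trans (N0_le z W)) (o2_isPGroup _) ((C_le_N0 h.CW).trans (normalizer_le_normalizer_o2 _))
  exact h1.trans (h3.trans h4)

theorem inf_cent (hQ : o2 (centralizer ({z} : Set G)) ≤ centralizer (V : Set G)) :
    o2 (centralizer ({a} : Set G) ⊓ centralizer ({z} : Set G)) ⊓ N0 z W ≤ centralizer (U : Set G) :=
  h.inf_le_q.trans (h.cent_U (le_normalizer_o2 _) hQ)

end GF

end Cfsg.Agent.Omega.NO3S.JZ
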