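import Cfsg.Agent.Omega.FOne.Rep
import Cfsg.Agent.Omega.NO3S.V4.TT

/-!
# THEOREM JZ (bb OMEGA #26032, helper582), part (B) (helper87): from `PSin` on `W` to a transvection on `U`

`C` normalises the elementary abelian groups `W ≤ U`, `z ∈ W`; `T ∈ Syl₂(C)`, `Lz = {1, z, x, x z} ≤ W`, `O` = a 2-group
centralising `Lz` and normalised by `N_C(Lz)`; `A ≤ O` is an elementary abelian offender on `W` which moves `W`, and
`U = W C_U(A)`.

* `isTv_lift` : an element of `C` which is a transvection of `W / z` with swapped centre is one of `U / z`;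
* **`exists_tv`** : some element of the image of `O` in `GL(U)` is one.
-/

set_option autoImplicit false
set_option linter.unusedSectionVars false

namespace Cfsg.Agent.Omega.NO3S.JZ.TvEnd

open Subgroup Cfsg Cfsg.Agent.ZN Cfsg.Agent.Omega.CaseL
open Cfsg.Agent.Omega.FOne.Tvw (Base IsTv z2 addself indep eq_of_add_eq_zero')
open Cfsg.Agent.Omega.FOne.Rep (Rp PSin)

universe u

variable {G : Type u} [Group G] {W U C : Subgroup G} {z : G}
  {X : Type u} [AddCommGroup X] [Module (ZMod 2) X] {Y : Type u} [AddCommGroup Y] [Module (ZMod 2) Y]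

theorem e_smul {E : Subgroup G} {X : Type u} [AddCommGroup X] [Module (ZMod 2) X] (r : Rp E X) {r' : Rp U Y}
    {x : X} {x' : Y} (hx : r'.e x' = r.e x) (a : ZMod 2) : r'.e (a • x') = r.e (a • x) := by
  rcases z2 a with rfl | rfl
  · rw [zero_smul, zero_smul, r.zero, r'.zero]
  · rw [one_smul, one_smul, hx]

/-- **the lift of a transvection from `W` to `U`** -/
theorem isTv_lift (hCW : C ≤ normalizer (W : Set G)) (hCU : C ≤ normalizer (U : Set G)) (WU : W ≤ U)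
    (r : Rp W X) (r' : Rp U Y) {y : X} {y' : Y} (hy : r.e y = z) (hy' : r'.e y' = z) (y0 : y ≠ 0) {c : G} (hc : c ∈ C)
    (hdec : ∀ u ∈ U, ∃ w ∈ W, c * (w⁻¹ * u) = w⁻¹ * u * c)
    (tv : IsTv (r.rho C hCW).range y (r.rho C hCW ⟨c, hc⟩)) :
    IsTv (r'.rho C hCU).range y' (r'.rho C hCU ⟨c, hc⟩) := by
  obtain ⟨θ, f, d, θ0, θy, hf, e, h, hh, eh⟩ := tv
  set θ' : Y := r'.pre (r.e θ) (WU (r.mem θ)) with hθ'
  have eθ : r'.e θ' = r.e θ := r'.e_pre _
  have ey : r'.e y' = r.e y := hy'.trans hy.symm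
  have θ'0 : θ' ≠ 0 := by
    intro h0
    rw [h0, r'.zero] at eθ
    exact θ0 (r.eq_one.1 eθ.symm)
  have θ'y : θ' ≠ y' := by
    intro h0
    rw [h0, ey] at eθ
    exact θy (r.inj eθ).symm
  have y'0 : y' ≠ 0 := by
    intro h0
    rw [h0, r'.zero] at ey
    exact y0 (r.eq_one.1 ey.symm)
  -- the formula
  have hform : ∀ v : Y, ∀ w : X, c * ((r.e w)⁻¹ * r'.e v) = (r.e w)⁻¹ * r'.e v * c →
      r'.rho C hCU ⟨c, hc⟩ v = v + f w • θ' + d w • y' := by
    intro v w hk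
    apply r'.inj
    rw [r'.e_rho, r'.add, r'.add, e_smul r eθ, e_smul r ey]
    have h1 := e w
    have h2 : r.e (r.rho C hCW ⟨c, hc⟩ w) = c * r.e w * c⁻¹ := r.e_rho _ _ _
    rw [h1, r.add, r.add] at h2
    have hab : ∀ a ∈ U, ∀ b ∈ U, a * b = b * a := by
      intro a ha b hb
      obtain ⟨a, rfl⟩ := (r'.rng a).1 ha
      obtain ⟨b, rfl⟩ := (r'.rng b).1 hb
      rw [← r'.add, ← r'.add, add_comm]
    have hE : ∀ x : X, r.e x ∈ U := fun x => WU (r.mem x)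
    calc c * r'.e v * c⁻¹ = (c * r.e w * c⁻¹) * (c * ((r.e w)⁻¹ * r'.e v)) * c⁻¹ := by group
      _ = (c * r.e w * c⁻¹) * ((r.e w)⁻¹ * r'.e v) := by rw [hk]; group
      _ = (r.e w * r.e (f w • θ) * r.e (d w • y)) * ((r.e w)⁻¹ * r'.e v) := by rw [h2]
      _ = ((r.e w)⁻¹ * r'.e v) * (r.e w * r.e (f w • θ) * r.e (d w • y)) :=
          hab _ (mul_mem (mul_mem (hE _) (hE _)) (hE _)) _ (mul_mem (inv_mem (hE _)) (r'.mem _))
      _ = (r.e w)⁻¹ * (r'.e v * r.e w) * r.e (f w • θ) * r.e (d w • y) := by group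
      _ = (r.e w)⁻¹ * (r.e w * r'.e v) * r.e (f w • θ) * r.e (d w • y) := by rw [hab _ (r'.mem v) _ (hE w)]
      _ = r'.e v * r.e (f w • θ) * r.e (d w • y) := by group
  have hex : ∀ v : Y, ∃ ab : ZMod 2 × ZMod 2, r'.rho C hCU ⟨c, hc⟩ v = v + ab.1 • θ' + ab.2 • y' := by
    intro v
    obtain ⟨w, hw, hk⟩ := hdec _ (r'.mem v)
    obtain ⟨w, rfl⟩ := (r.rng w).1 hw
    exact ⟨(f w, d w), hform v w hk⟩
  choose ab hab using hex
  have huniq : ∀ (v : Y) (a b : ZMod 2), r'.rho C hCU ⟨c, hc⟩ v = v + a • θ' + b • y' → a = (ab v).1 ∧ b = (ab v).2 := by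
    intro v a b hv
    rw [hab v, add_assoc, add_assoc] at hv
    have h1 := add_left_cancel hv
    have h2 : (a + (ab v).1) • θ' + (b + (ab v).2) • y' = 0 := by
      have h3 : (a + (ab v).1) • θ' + (b + (ab v).2) • y' =
          (a • θ' + b • y') + ((ab v).1 • θ' + (ab v).2 • y') := by module
      rw [h3, h1]
      exact addself _
    obtain ⟨h4, h5⟩ := indep θ'0 θ'y y'0 h2
    have z3 : ∀ x y : ZMod 2, x + y = 0 → x = y := by decide
    exact ⟨z3 _ _ h4, z3 _ _ h5⟩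
  let F : Y →+ ZMod 2 × ZMod 2 := AddMonoidHom.mk' ab (by
    intro v w
    have h1 : r'.rho C hCU ⟨c, hc⟩ (v + w) = (v + w) + ((ab v).1 + (ab w).1) • θ' + ((ab v).2 + (ab w).2) • y' := by
      rw [map_add, hab v, hab w]; module
    obtain ⟨h2, h3⟩ := huniq _ _ _ h1
    exact (Prod.ext h2 h3).symm)
  let f' : Y →ₗ[ZMod 2] ZMod 2 := ((AddMonoidHom.fst _ _).comp F).toZModLinearMap 2
  let d' : Y →ₗ[ZMod 2] ZMod 2 := ((AddMonoidHom.snd _ _).comp F).toZModLinearMap 2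
  refine ⟨θ', f', d', θ'0, θ'y, ?_, fun v => hab v, ?_⟩
  · intro h0
    apply hf
    ext w
    rw [LinearMap.zero_apply]
    have h1 : r'.e (r'.pre (r.e w) (WU (r.mem w))) = r.e w := r'.e_pre _
    have h2 := hform (r'.pre (r.e w) (WU (r.mem w))) w (by rw [h1]; group)
    rw [(huniq _ _ _ h2).1]
    exact LinearMap.congr_fun h0 _
  · obtain ⟨⟨c', hc'⟩, rfl⟩ := hh
    refine ⟨r'.rho C hCU ⟨c', hc'⟩, ⟨_, rfl⟩, ?_⟩
    apply r'.inj
    rw [r'.e_rho, r'.add, eθ, ey, ← r.add, ← eh, r.e_rho]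

/-- the centraliser of the image -/
theorem card_fix [Finite G] (hCW : C ≤ normalizer (W : Set G)) (r : Rp W X) {B : Subgroup G} (hB : B ≤ C) :
    Nat.card {w : X // ∀ a ∈ r.im hCW B, a w = w} = Nat.card ↥(W ⊓ centralizer (B : Set G)) := by
  have key : ∀ w : X, (∀ a ∈ r.im hCW B, a w = w) ↔ r.e w ∈ centralizer (B : Set G) := by
    intro w
    rw [mem_centralizer_iff]
    constructor
    · intro h b hb
      obtain ⟨φ, hφ, e⟩ := r.exists_im hCW hB hb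
      have h1 := e w
      rw [h φ hφ, eq_mul_inv_iff_mul_eq] at h1
      exact h1.symm
    · intro h a ha
      obtain ⟨b, hb, e⟩ := (r.mem_im hCW hB).1 ha
      apply r.inj
      rw [e, h b hb, mul_inv_cancel_right]
  refine Nat.card_eq_of_bijective (fun w => (⟨r.e w.1, r.mem _, (key w.1).1 w.2⟩ :
    ↥(W ⊓ centralizer (B : Set G)))) ⟨?_, ?_⟩
  · intro a b h
    exact Subtype.ext (r.inj (congrArg Subtype.val h))
  · rintro ⟨g, hg, hc⟩
    obtain ⟨w, rfl⟩ := (r.rng g).1 hg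
    exact ⟨⟨w, (key w).2 hc⟩, rfl⟩

/-- **THEOREM JZ (B)** -/
theorem exists_tv [Finite G] (hPS : PSin.{u}) {T O A Lz : Subgroup G} (hCW : C ≤ normalizer (W : Set G))
    (hCU : C ≤ normalizer (U : Set G)) (WU : W ≤ U) (r : Rp W X) (r' : Rp U Y) {y : X} {y' : Y} (hy : r.e y = z)
    (hy' : r'.e y' = z) (kg : IsKGroupWith IsKnownSimple' (r.rho C hCW).range) (b : Base (r.rho C hCW).range y)
    (TC : T ≤ C) (T2 : IsPGroup 2 T) (Todd : ¬ 2 ∣ T.relIndex C)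
    (fixT : ∀ w ∈ W, (∀ t ∈ T, t * w * t⁻¹ = w) → w = 1 ∨ w = z)
    (LW : Lz ≤ W) (Lcard : Nat.card Lz = 4) (zL : z ∈ Lz) (LT : T ≤ normalizer (Lz : Set G))
    (Lsw : ∀ v ∈ Lz, v ≠ 1 → v ≠ z → ∃ t ∈ T, t * v * t⁻¹ = v * z)
    (Lgen : ∀ K : Subgroup G, (∀ c ∈ C, ∀ v ∈ Lz, c * v * c⁻¹ ∈ K) → W ≤ K)
    (OC : O ≤ C) (O2 : IsPGroup 2 O) (OL : O ≤ centralizer (Lz : Set G))
    (ON : C ⊓ normalizer (Lz : Set G) ≤ normalizer (O : Set G))
    (AO : A ≤ O) (Ael : IsElementaryAbelian 2 A) (Amv : ¬ A ≤ centralizer (W : Set G))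
    (off : (centralizer (A : Set G)).relIndex W ≤ (centralizer (W : Set G)).relIndex A)
    (split : U ≤ W ⊔ (U ⊓ centralizer (A : Set G))) :
    ∃ g ∈ r'.im hCU O, IsTv (r'.rho C hCU).range y' g := by
  have hWab : ∀ a ∈ W, ∀ b ∈ W, a * b = b * a := by
    intro a ha b hb
    obtain ⟨a, rfl⟩ := (r.rng a).1 ha
    obtain ⟨b, rfl⟩ := (r.rng b).1 hb
    rw [← r.add, ← r.add, add_comm]
  have hWsq : ∀ a ∈ W, a ^ 2 = 1 := by
    intro a ha
    obtain ⟨a, rfl⟩ := (r.rng a).1 ha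
    rw [pow_two, r.sq]
  obtain ⟨B, BA, Bmv, Boff, Bq, -⟩ := VFour.exists_quad (fun a ha => mem_centralizer_iff.2 fun b hb => hWab b hb a ha)
    hWsq Ael ((AO.trans OC).trans hCW) Amv off
  have BC : B ≤ C := (BA.trans AO).trans OC
  have hXf : Finite X := r.finite
  have hconj : ∀ φ ∈ (r.rho C hCW).range, ∃ c ∈ C, ∀ w, r.e (φ w) = c * r.e w * c⁻¹ := by
    rintro _ ⟨⟨c, hc⟩, rfl⟩
    exact ⟨c, hc, fun w => r.e_rho hCW _ w⟩
  have hBcomm : ∀ a ∈ B, ∀ b ∈ B, a * b = b * a := fun a ha b hb =>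
    congrArg Subtype.val (Ael.1.is_comm.comm (⟨a, BA ha⟩ : A) ⟨b, BA hb⟩)
  have h := hPS X (r.rho C hCW).range y (r.im hCW T) (r.im hCW B) (r.im hCW O) (r.mod Lz) kg b
    (by rintro _ ⟨c, -, rfl⟩; exact ⟨c, rfl⟩) (r.isPGroup_im hCW T2) ?_ ?_ ?_ ?_ ?_ ?_ ?_
    (by rintro _ ⟨c, -, rfl⟩; exact ⟨c, rfl⟩) (r.isPGroup_im hCW O2) ?_ ?_ (r.im_mono hCW (BA.trans AO)) ?_ ?_ ?_ ?_ ?_
  · obtain ⟨-, hgen⟩ := h
    -- some element of the image of `B` is a transvection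
    obtain ⟨g, hg, tv⟩ : ∃ g ∈ r.im hCW B, IsTv (r.rho C hCW).range y g := by
      by_contra hcon
      push Not at hcon
      apply Bmv
      intro x hx
      obtain ⟨φ, hφ, e⟩ := r.exists_im hCW BC hx
      have h1 := hgen hφ
      have h2 : {g | g ∈ r.im hCW B ∧ IsTv (r.rho C hCW).range y g} = ∅ := by
        ext g
        constructor
        · rintro ⟨h3, h4⟩; exact absurd h4 (hcon g h3)
        · intro h3; exact absurd h3 (by simp)
      rw [h2, Subgroup.closure_empty, mem_bot] at h1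
      rw [mem_centralizer_iff]
      intro w hw
      obtain ⟨w, rfl⟩ := (r.rng w).1 hw
      have h3 := e w
      rw [h1, eq_mul_inv_iff_mul_eq] at h3
      exact h3
    obtain ⟨⟨c, hcC⟩, hcB, rfl⟩ := hg
    have hc : c ∈ B := mem_subgroupOf.1 hcB
    refine ⟨r'.rho C hCU ⟨c, hcC⟩, ⟨⟨c, hcC⟩, mem_subgroupOf.2 (AO (BA hc)), rfl⟩, ?_⟩
    refine isTv_lift hCW hCU WU r r' hy hy' b.y0 hcC (fun u hu => ?_) tv
    have hUab : ∀ a ∈ U, ∀ b ∈ U, a * b = b * a := by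
      intro a ha b hb
      obtain ⟨a, rfl⟩ := (r'.rng a).1 ha
      obtain ⟨b, rfl⟩ := (r'.rng b).1 hb
      rw [← r'.add, ← r'.add, add_comm]
    let K : Subgroup G :=
      { carrier := {x | ∃ w ∈ W, ∃ k ∈ U ⊓ centralizer (A : Set G), w * k = x}
        one_mem' := ⟨1, one_mem _, 1, one_mem _, mul_one 1⟩
        mul_mem' := by
          rintro _ _ ⟨w, hw, k, hk, rfl⟩ ⟨w', hw', k', hk', rfl⟩
          refine ⟨w * w', mul_mem hw hw', k * k', mul_mem hk hk', ?_⟩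
          rw [mul_assoc w w', ← mul_assoc w' k, hUab w' (WU hw') k hk.1]
          group
        inv_mem' := by
          rintro _ ⟨w, hw, k, hk, rfl⟩
          refine ⟨w⁻¹, inv_mem hw, k⁻¹, inv_mem hk, ?_⟩
          rw [mul_inv_rev]
          exact hUab _ (WU (inv_mem hw)) _ (inv_mem hk.1) }
    have hK : W ⊔ (U ⊓ centralizer (A : Set G)) ≤ K :=
      sup_le (fun w hw => ⟨w, hw, 1, one_mem _, mul_one w⟩) (fun k hk => ⟨1, one_mem _, k, hk, one_mul k⟩)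
    obtain ⟨w, hw, k, hk, rfl⟩ := hK (split hu)
    refine ⟨w, hw, ?_⟩
    have h2 := mem_centralizer_iff.1 hk.2 c (BA hc)
    rw [inv_mul_cancel_left]
    exact h2
  · -- index
    have h1 : (r.im hCW T).relIndex (r.rho C hCW).range ∣ T.relIndex C := by
      rw [MonoidHom.range_eq_map, Rp.im, relIndex_map_map, top_sup_eq, relIndex_top_right]
      exact index_dvd_of_le le_sup_left
    exact fun h2 => Todd (h2.trans h1)
  · intro w hw
    rcases fixT _ (r.mem w) (fun t ht => by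
      obtain ⟨φ, hφ, e⟩ := r.exists_im hCW TC ht
      have := e w
      rw [hw φ hφ] at this
      exact this.symm) with e | e
    · left; exact r.eq_one.1 e
    · right; exact r.inj (e.trans hy.symm)
  · rw [r.card_mod LW]; exact Lcard
  · rw [r.mem_mod, hy]; exact zL
  · intro t ht v hv
    obtain ⟨c, hc, e⟩ := (r.mem_im hCW TC).1 ht
    rw [r.mem_mod, e]
    exact (mem_normalizer_iff.1 (LT hc) _).1 hv
  · intro v hv v0 vy
    obtain ⟨t, ht, e⟩ := Lsw _ hv (fun h => v0 (r.eq_one.1 h)) (fun h => vy (r.inj (h.trans hy.symm)))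
    obtain ⟨φ, hφ, e'⟩ := r.exists_im hCW TC ht
    refine ⟨φ, hφ, r.inj ?_⟩
    rw [e', e, r.add, hy]
  · intro D hD
    rw [eq_top_iff]
    intro w _
    have h1 : W ≤ r.sub D := by
      refine Lgen _ fun c hc v hv => ?_
      obtain ⟨v, rfl⟩ := (r.rng v).1 (LW hv)
      refine ⟨r.rho C hCW ⟨c, hc⟩ v, hD _ ⟨_, rfl⟩ v hv, r.e_rho hCW _ _⟩
    exact r.e_mem_sub.1 (h1 (r.mem w))
  · intro n hn v hv
    obtain ⟨c, hc, e⟩ := (r.mem_im hCW OC).1 hn
    apply r.inj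
    rw [e, ← mem_centralizer_iff.1 (OL hc) _ hv, mul_inv_cancel_right]
  · intro φ hφ hL n hn
    obtain ⟨⟨c, hc⟩, rfl⟩ := hφ
    obtain ⟨⟨o, ho⟩, hoO, rfl⟩ := hn
    have hcL : c ∈ normalizer (Lz : Set G) := by
      have h1 : ∀ x ∈ Lz, c * x * c⁻¹ ∈ Lz := by
        intro x hx
        obtain ⟨x, rfl⟩ := (r.rng x).1 (LW hx)
        have := hL x hx
        rw [r.mem_mod, r.e_rho] at this
        exact this
      have h3 : ChoiceBase.cj c Lz ≤ Lz := by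
        intro x hx
        rw [ChoiceBase.mem_cj] at hx
        have := h1 _ hx
        have e : c * (c⁻¹ * x * c) * c⁻¹ = x := by group
        rwa [e] at this
      have h4 : ChoiceBase.cj c Lz = Lz := by
        refine eq_of_le_of_card_ge h3 ?_
        rw [ChoiceBase.card_cj]
      exact ChoiceBase.mem_normalizer_iff_cj.2 h4
    have h1 : c * o * c⁻¹ ∈ O := (mem_normalizer_iff.1 (ON ⟨hc, hcL⟩) _).1 hoO
    exact ⟨⟨c * o * c⁻¹, OC h1⟩, h1, by rw [← map_inv, ← map_mul, ← map_mul]; rfl⟩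
  · intro hbot
    apply Bmv
    intro x hx
    obtain ⟨φ, hφ, e⟩ := r.exists_im hCW BC hx
    rw [hbot, mem_bot] at hφ
    rw [mem_centralizer_iff]
    intro w hw
    obtain ⟨w, rfl⟩ := (r.rng w).1 hw
    have h3 := e w
    rw [hφ, eq_mul_inv_iff_mul_eq] at h3
    exact h3
  · rintro _ ⟨⟨c, hc⟩, hcB, rfl⟩
    rw [← map_mul]
    have : (⟨c, hc⟩ : C) * ⟨c, hc⟩ = 1 := by
      apply Subtype.ext
      have := Ael.2 c (BA (mem_subgroupOf.1 hcB))
      rwa [pow_two] at this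
    rw [this, map_one]
  · rintro _ ⟨⟨c, hc⟩, hcB, rfl⟩ _ ⟨⟨c', hc'⟩, hcB', rfl⟩
    rw [← map_mul, ← map_mul]
    congr 1
    exact Subtype.ext (hBcomm c (mem_subgroupOf.1 hcB) c' (mem_subgroupOf.1 hcB'))
  · rintro _ ⟨⟨c, hc⟩, hcB, rfl⟩ _ ⟨⟨c', hc'⟩, hcB', rfl⟩ w
    apply r.inj
    have h1 := mem_centralizer_iff.1 (Bq _ (r.mem w) c (mem_subgroupOf.1 hcB)) c' (mem_subgroupOf.1 hcB')
    have h2 : r.e (r.rho C hCW ⟨c, hc⟩ w + w) = c * r.e w * c⁻¹ * (r.e w)⁻¹ := by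
      rw [r.add, r.e_rho, r.inv]
    rw [r.e_rho, h2]
    change c' * _ * c'⁻¹ = _
    rw [h1, mul_inv_cancel_right]
  · rw [r.card, card_fix hCW r BC, r.card_im hCW BC]
    have h1 := Boff W le_rfl
    have h2 : Nat.card W = (centralizer (B : Set G)).relIndex W * Nat.card ↥(W ⊓ centralizer (B : Set G)) := by
      rw [← inf_relIndex_left, mul_comm, Subgroup.relIndex,
        ← Nat.card_congr (Subgroup.subgroupOfEquivOfLe (inf_le_left : W ⊓ centralizer (B : Set G) ≤ W)).toEquiv]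
      exact (Subgroup.card_mul_index _).symm
    rw [h2]
    exact Nat.mul_le_mul_right _ h1

end Cfsg.Agent.Omega.NO3S.JZ.TvEnd
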