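import Cfsg.Agent.Omega.NTwo.Core
import Cfsg.Agent.Omega.NO3S.MFive.Basic

/-!
# THEOREM JZ (bb OMEGA #26032): the frame

`p : Fin 5 → G` the heavy vectors of `V` = even subsets of five letters, `z = p 4`, `n = p 0 p 1` (= 12),
`a = p 2 p 3` (= 34), `F = ⟨p i p j : i, j ≠ 4⟩`, `S` a Sylow 2-subgroup of `C_G(z)` in standard position,
`D = C_G(n, a)`, `U = ⟨V^C_G(z)⟩`, `W = ⟨F^C_G(z)⟩`.

* `Jf S P p` : the frame; the world is `O₂(C_G(z)) ≤ C_G(V)`.
-/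

set_option autoImplicit false

namespace Cfsg.Agent.Omega.NO3S.JZ

open Subgroup Cfsg Cfsg.Agent.ZN Cfsg.Agent.Omega.NTwo
open Cfsg.Agent.Omega.NO3S.MFive (nc)

universe u

variable {G : Type u} [Group G]

/-- `V = ⟨p i⟩` -/
abbrev V (p : Fin 5 → G) : Subgroup G := closure (Set.range p)

/-- `C_G(z)` -/
abbrev Cz (p : Fin 5 → G) : Subgroup G := centralizer ({p 4} : Set G)

/-- `F`, the even subsets of the first four letters: `12, 13, 14` -/
abbrev F (p : Fin 5 → G) : Subgroup G := closure {p 0 * p 1, p 0 * p 2, p 0 * p 3}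

/-- `Z_J = {1, 12, 34, z}` -/
abbrev ZJ (p : Fin 5 → G) : Subgroup G := closure {p 0 * p 1, p 2 * p 3}

/-- `D = C_G(12, 34)` -/
abbrev D (p : Fin 5 → G) : Subgroup G := centralizer {p 0 * p 1, p 2 * p 3}

/-- `U = ⟨V^C_G(z)⟩` -/
abbrev U (p : Fin 5 → G) : Subgroup G := nc (Cz p) (V p)

/-- `W = ⟨F^C_G(z)⟩` -/
abbrev W (p : Fin 5 → G) : Subgroup G := nc (Cz p) (F p)

/-- `Q = C_S(V)` -/
abbrev Q (S : Subgroup G) (p : Fin 5 → G) : Subgroup G := S ⊓ centralizer (V p : Set G)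

/-- **The frame.** -/
structure Jf (S P : Subgroup G) (p : Fin 5 → G) : Prop extends Std S P p where
  two : IsPGroup 2 S
  /-- `S` is a Sylow 2-subgroup of `C_G(z)` -/
  syl : ¬ 2 ∣ S.relIndex (Cz p)
  /-- `N_G(V)` permutes the five heavy vectors -/
  act : ∀ g ∈ normalizer (V p : Set G), ∃ σ : Equiv.Perm (Fin 5), ∀ i, g * p i * g⁻¹ = p (σ i)
  /-- the world -/
  hq : o2 (Cz p) ≤ centralizer (V p : Set G)
  uab : IsElementaryAbelian 2 (U p)
  /-- `C_U(Q) = V` -/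
  cq : U p ⊓ centralizer (Q S p : Set G) ≤ V p
  /-- `D` is not in `L = N_G(V)` -/
  nD : ¬ D p ≤ normalizer (V p : Set G)
  K : IsKGroup (Cz p)

end Cfsg.Agent.Omega.NO3S.JZ
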