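import Cfsg.Agent.Omega.NO3S.JZ.Grp

/-!
# THEOREM JZ (helper582, bb OMEGA #26032): the dichotomy (2)

In the setting `GF`, with `|F| ≤ 8`, `C_G(a, z) ≰ N(F)`, `N_C(V)` irreducible on `F / z`, `N_C(V) ∩ N(F)` trivial on
`V / F` and no element of `N_C(V)` acting as a transvection of `V` with centre `⟨z⟩`:

* `GF.act_le` : `N₀ ≤ C(V)` or every `r ∈ C` with `[U, r] ≤ W` lies in `N₀`;
* `GF.dich` : `N₀ ≤ C(U)` or (`A ≤ O`, `[U, A] ≤ W` implies `A ≤ C(U)`).
-/

set_option autoImplicit false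
set_option linter.unusedSectionVars false

namespace Cfsg.Agent.Omega.NO3S.JZ

open Subgroup Cfsg Cfsg.Agent.ZN Cfsg.Agent.ZN.ChoiceBase
open Cfsg.Agent.MinSimple.VModule (o2_isPGroup o2_le le_o2 le_normalizer_o2)

universe u

variable {G : Type u} [Group G] [Finite G]

theorem nm_of {H : Subgroup G} {g : G} (h : ∀ x ∈ H, g * x * g⁻¹ ∈ H) : g ∈ normalizer (H : Set G) := by
  refine mem_normalizer_of_cj_le fun x hx => ?_
  have h1 := h _ (mem_cj.1 hx)
  have e : g * (g⁻¹ * x * g) * g⁻¹ = x := by group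
  rwa [e] at h1

theorem two_mul_card {H K : Subgroup G} (h : H < K) : 2 * Nat.card H ≤ Nat.card K := by
  have h1 := relIndex_mul_relIndex ⊥ H K bot_le h.le
  rw [relIndex_bot_left, relIndex_bot_left] at h1
  have h2 : H.relIndex K ≠ 1 := fun h3 => h.not_ge (relIndex_eq_one.1 h3)
  have h3 : H.relIndex K ≠ 0 := Subgroup.index_ne_zero_of_finite (H := H.subgroupOf K)
  rw [← h1, mul_comm]
  exact Nat.mul_le_mul_left _ (by omega)

namespace GF

variable {z a : G} {S V F U W : Subgroup G} (h : GF z a S V F U W)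
include h

/-- a proper subgroup of `F` containing `a`, `z` is `{1, a, z, az}` -/
theorem four (hF : Nat.card F ≤ 8) (hz1 : z ≠ 1) (ha1 : a ≠ 1) (haz : a ≠ z) {X : Subgroup G} (hXF : X ≤ F)
    (hX : X ≠ F) (ha : a ∈ X) (hz : z ∈ X) {x : G} (hx : x ∈ X) : x = 1 ∨ x = a ∨ x = z ∨ x = a * z := by
  have a2 := h.Usq _ h.aU
  have z2 := h.zsq
  have c := h.Uc _ h.aU _ h.zU
  have e1 : a * (a * z) = z := by rw [← mul_assoc, a2, one_mul]
  have e2 : a * z * a = z := by rw [c, mul_assoc, a2, mul_one]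
  have e3 : z * (a * z) = a := by rw [c, ← mul_assoc, z2, one_mul]
  have e4 : a * z * z = a := by rw [mul_assoc, z2, mul_one]
  have e5 : a * z * (a * z) = 1 := by rw [← mul_assoc, e2, z2]
  let Y : Subgroup G :=
    { carrier := {x | x = 1 ∨ x = a ∨ x = z ∨ x = a * z}
      mul_mem' := by
        rintro x y (rfl | rfl | rfl | rfl) (rfl | rfl | rfl | rfl) <;>
          simp only [Set.mem_ofPred_eq, one_mul, mul_one, a2, z2, e1, e2, e3, e4, e5, ← c, true_or, or_true]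
      one_mem' := Or.inl rfl
      inv_mem' := by
        rintro x (rfl | rfl | rfl | rfl)
        · exact Or.inl inv_one
        · exact Or.inr (Or.inl (inv_eq_of_mul_eq_one_right a2))
        · exact Or.inr (Or.inr (Or.inl (inv_eq_of_mul_eq_one_right z2)))
        · exact Or.inr (Or.inr (Or.inr (inv_eq_of_mul_eq_one_right e5))) }
  have hYX : Y ≤ X := by
    rintro y (rfl | rfl | rfl | rfl)
    · exact one_mem _
    · exact ha
    · exact hz
    · exact mul_mem ha hz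
  have h1 : (⊥ : Subgroup G) < zpowers z := bot_lt_iff_ne_bot.2 fun h2 => hz1 (zpowers_eq_bot.1 h2)
  have h2 : zpowers z < Y := by
    refine lt_of_le_of_ne (zpowers_le.2 (Or.inr (Or.inr (Or.inl rfl)))) fun h3 => ?_
    have h4 : a ∈ zpowers z := h3 ▸ (Or.inr (Or.inl rfl) : a ∈ Y)
    rcases h.mem_zp h4 with h5 | h5
    · exact ha1 h5
    · exact haz h5
  have h3 : X < F := lt_of_le_of_ne hXF hX
  have h4 : Y = X := by
    by_contra hne
    have i1 := two_mul_card h1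
    have i2 := two_mul_card h2
    have i3 := two_mul_card (lt_of_le_of_ne hYX hne)
    have i4 := two_mul_card h3
    rw [card_bot] at i1
    omega
  rw [← h4] at hx
  exact hx

theorem N0_norm_F : N0 z W ≤ normalizer (F : Set G) := by
  intro g hg
  refine nm_of fun x hx => ?_
  have h1 := (zpowers_le.2 h.zF) (hg.2 x (h.FW hx))
  have h2 := mul_mem h1 hx
  have e : g * x * g⁻¹ * x⁻¹ * x = g * x * g⁻¹ := by group
  rwa [e] at h2

/-- **(2)** -/
theorem act_le (hF : Nat.card F ≤ 8) (hz1 : z ≠ 1) (ha1 : a ≠ 1) (haz : a ≠ z)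
    (hD : ¬ centralizer ({a} : Set G) ⊓ centralizer ({z} : Set G) ≤ normalizer (F : Set G))
    (VF : ∀ g ∈ normalizer (V : Set G), g ∈ normalizer (F : Set G) → g ∈ centralizer ({z} : Set G) →
      ∀ v ∈ V, g * v * g⁻¹ * v⁻¹ ∈ F)
    (h5 : ∀ g ∈ normalizer (V : Set G), g ∈ centralizer ({z} : Set G) →
      (∀ v ∈ V, g * v * g⁻¹ * v⁻¹ ∈ zpowers z) → g ∈ centralizer (V : Set G))
    (irr : ∀ X : Subgroup G, X ≤ F → z ∈ X →
      (normalizer (V : Set G) ⊓ centralizer ({z} : Set G) ≤ normalizer (X : Set G)) → X ≤ zpowers z ∨ F ≤ X)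
    (hN : ¬ N0 z W ≤ centralizer (V : Set G)) {r : G} (hrC : r ∈ centralizer ({z} : Set G))
    (hr : ∀ u ∈ U, r * u * r⁻¹ * u⁻¹ ∈ W) : r ∈ N0 z W := by
  have hNF := h.N0_norm_F
  have hNV : N0 z W ≤ normalizer (V : Set G) := (le_inf hNF (N0_le z W)).trans h.norm_F
  have hCN := C_le_N0 h.CW
  -- `X = [V, N₀]⟨z⟩`
  set B : Set G := {x | ∃ g ∈ N0 z W, ∃ v ∈ V, g * v * g⁻¹ * v⁻¹ = x} ∪ {z} with hB
  have hXF : closure B ≤ F := by
    rw [closure_le]
    rintro x (⟨g, hg, v, hv, rfl⟩ | rfl)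
    · exact VF g (hNV hg) (hNF hg) hg.1 v hv
    · exact h.zF
  have hFX : F ≤ closure B := by
    have hirr : normalizer (V : Set G) ⊓ centralizer ({z} : Set G) ≤ normalizer (closure B : Set G) := by
      intro l hl
      refine nm_of fun x hx => ?_
      have h1 : closure B ≤ (closure B).comap (MulAut.conj l).toMonoidHom := by
        rw [closure_le]
        rintro x (⟨g, hg, v, hv, rfl⟩ | rfl)
        · change l * (g * v * g⁻¹ * v⁻¹) * l⁻¹ ∈ closure B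
          refine subset_closure (Or.inl ⟨l * g * l⁻¹, nm (hCN hl.2) hg, l * v * l⁻¹, nm hl.1 hv, ?_⟩)
          group
        · change l * x * l⁻¹ ∈ closure B
          rw [cz_conj hl.2]
          exact subset_closure (Or.inr rfl)
      exact h1 hx
    rcases irr (closure B) hXF (subset_closure (Or.inr rfl)) hirr with h1 | h1
    · exfalso
      refine hN fun g hg => h5 g (hNV hg) hg.1 fun v hv => h1 (subset_closure (Or.inl ⟨g, hg, v, hv, rfl⟩))
    · exact h1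
  -- every `r ∈ C` with `[U, r] ≤ W` normalises `F`
  have key : ∀ r ∈ centralizer ({z} : Set G), (∀ u ∈ U, r * u * r⁻¹ * u⁻¹ ∈ W) → r ∈ normalizer (F : Set G) := by
    intro r hrC hr
    refine nm_of fun x hx => ?_
    have h1 : closure B ≤ F.comap (MulAut.conj r).toMonoidHom := by
      rw [closure_le]
      rintro x (⟨g, hg, v, hv, rfl⟩ | rfl)
      · change r * (g * v * g⁻¹ * v⁻¹) * r⁻¹ ∈ F
        set g' := r * g * r⁻¹ with hg'
        have hg1 : g' ∈ N0 z W := nm (hCN hrC) hg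
        set w := r * v * r⁻¹ * v⁻¹ with hw
        have hw1 : w ∈ W := hr v (h.VU hv)
        have hx1 : g' * w * g'⁻¹ * w⁻¹ ∈ zpowers z := hg1.2 w hw1
        have hx2 : g' * v * g'⁻¹ * v⁻¹ ∈ F := VF g' (hNV hg1) (hNF hg1) hg1.1 v hv
        have e1 : r * (g * v * g⁻¹ * v⁻¹) * r⁻¹ = g' * w * g'⁻¹ * (g' * v * g'⁻¹ * v⁻¹) * w⁻¹ := by
          rw [hg', hw]
          group
        have hU1 : g' * w * g'⁻¹ ∈ U := h.WU (nm (h.CW hg1.1) hw1)
        have hU2 : g' * v * g'⁻¹ * v⁻¹ ∈ U := h.VU (h.FV hx2)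
        rw [e1, h.Uc _ hU1 _ hU2, mul_assoc]
        exact mul_mem hx2 (zpowers_le.2 h.zF hx1)
      · change r * x * r⁻¹ ∈ F
        rw [cz_conj hrC]
        exact h.zF
    exact h1 (hFX hx)
  -- `d ∈ D ∖ N(F)`
  obtain ⟨d, hd, hdF⟩ := Set.not_subset.1 hD
  have hda := (mem_inf.1 hd).1
  have hdz := (mem_inf.1 hd).2
  set X : Subgroup G := F ⊓ cj d F with hX
  have hXne : X ≠ F := by
    intro h1
    refine hdF (nm_of fun x hx => ?_)
    have h2 : F ≤ cj d F := inf_eq_left.1 h1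
    have h3 : cj d F = F := (eq_of_le_of_card_ge h2 (card_cj d F).le).symm
    rw [← h3, mem_cj]
    have e : d⁻¹ * (d * x * d⁻¹) * d = x := by group
    rwa [e]
  have haX : a ∈ X := by
    refine mem_inf.2 ⟨h.aF, mem_cj.2 ?_⟩
    rw [mul_assoc, ← cz.1 hda, ← mul_assoc, inv_mul_cancel, one_mul]
    exact h.aF
  have hzX : z ∈ X := by
    refine mem_inf.2 ⟨h.zF, mem_cj.2 ?_⟩
    rw [mul_assoc, ← cz.1 hdz, ← mul_assoc, inv_mul_cancel, one_mul]
    exact h.zF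
  refine h.sub_N0 {r | r ∈ centralizer ({z} : Set G) ∧ ∀ u ∈ U, r * u * r⁻¹ * u⁻¹ ∈ W} (fun _ hr => hr.1) ?_ ?_ r
    ⟨hrC, hr⟩
  · rintro c hc r ⟨hr1, hr2⟩
    refine ⟨mul_mem (mul_mem hc hr1) (inv_mem hc), fun u hu => ?_⟩
    have h1 := nm (h.CW hc) (hr2 _ (nm (h.CU (inv_mem hc)) hu))
    have e : c * (r * (c⁻¹ * u * c⁻¹⁻¹) * r⁻¹ * (c⁻¹ * u * c⁻¹⁻¹)⁻¹) * c⁻¹ =
        c * r * c⁻¹ * u * (c * r * c⁻¹)⁻¹ * u⁻¹ := by group
    rwa [e] at h1
  · rintro r ⟨hr1, hr2⟩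
    have hrF := key r hr1 hr2
    have hrF' : d⁻¹ * r * d ∈ normalizer (F : Set G) := by
      refine key _ (mul_mem (mul_mem (inv_mem hdz) hr1) hdz) fun u hu => ?_
      have h1 := nm (h.CW (inv_mem hdz)) (hr2 _ (nm (h.CU hdz) hu))
      have e : d⁻¹ * (r * (d * u * d⁻¹) * r⁻¹ * (d * u * d⁻¹)⁻¹) * d⁻¹⁻¹ =
          d⁻¹ * r * d * u * (d⁻¹ * r * d)⁻¹ * u⁻¹ := by group
      rwa [e] at h1
    have h1 : r * a * r⁻¹ ∈ X := by
      refine mem_inf.2 ⟨nm hrF h.aF, mem_cj.2 ?_⟩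
      have h2 := nm hrF' (mem_cj.1 (mem_inf.1 haX).2)
      have e : d⁻¹ * r * d * (d⁻¹ * a * d) * (d⁻¹ * r * d)⁻¹ = d⁻¹ * (r * a * r⁻¹) * d := by group
      rwa [e] at h2
    rcases h.four hF hz1 ha1 haz inf_le_left hXne haX hzX h1 with h2 | h2 | h2 | h2
    · exact absurd (conj_eq_one_iff.1 h2) ha1
    · rw [h2, mul_inv_cancel]
      exact one_mem _
    · exfalso
      refine haz ?_
      have h3 := cz_conj (inv_mem hr1)
      rw [← h2] at h3
      have e : r⁻¹ * (r * a * r⁻¹) * r⁻¹⁻¹ = a := by group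
      rw [e] at h3
      rw [h3, h2]
    · rw [h2, h.Uc _ h.aU _ h.zU, mul_inv_cancel_right]
      exact mem_zpowers z

/-- **THE DICHOTOMY (2)** -/
theorem dich (hQ : o2 (centralizer ({z} : Set G)) ≤ centralizer (V : Set G))
    (hF : Nat.card F ≤ 8) (hz1 : z ≠ 1) (ha1 : a ≠ 1) (haz : a ≠ z)
    (hD : ¬ centralizer ({a} : Set G) ⊓ centralizer ({z} : Set G) ≤ normalizer (F : Set G))
    (VF : ∀ g ∈ normalizer (V : Set G), g ∈ normalizer (F : Set G) → g ∈ centralizer ({z} : Set G) →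
      ∀ v ∈ V, g * v * g⁻¹ * v⁻¹ ∈ F)
    (h5 : ∀ g ∈ normalizer (V : Set G), g ∈ centralizer ({z} : Set G) →
      (∀ v ∈ V, g * v * g⁻¹ * v⁻¹ ∈ zpowers z) → g ∈ centralizer (V : Set G))
    (irr : ∀ X : Subgroup G, X ≤ F → z ∈ X →
      (normalizer (V : Set G) ⊓ centralizer ({z} : Set G) ≤ normalizer (X : Set G)) → X ≤ zpowers z ∨ F ≤ X) :
    N0 z W ≤ centralizer (U : Set G) ∨
      ∀ A : Subgroup G, A ≤ o2 (centralizer ({a} : Set G) ⊓ centralizer ({z} : Set G)) →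
        (∀ b ∈ A, ∀ u ∈ U, b * u * b⁻¹ * u⁻¹ ∈ W) → A ≤ centralizer (U : Set G) := by
  by_cases hN : N0 z W ≤ centralizer (V : Set G)
  · exact Or.inl (h.cent_U (C_le_N0 h.CW) hN)
  · refine Or.inr fun A hA hAW b hb => h.inf_cent hQ ⟨hA hb, ?_⟩
    exact h.act_le hF hz1 ha1 haz hD VF h5 irr hN (mem_inf.1 (o2_le _ (hA hb))).2 (hAW b hb)

end GF

end Cfsg.Agent.Omega.NO3S.JZ
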