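import Cfsg.Agent.Omega.FOne.TvwGen

/-!
# THEOREM JZ (bb #26032, helper582; LightL (E), n = 5): the module part

`(H, y)` as in LEMMA TVW (`Hyp`), `W` = the elementary abelian group `U_z`, `y` = `z`, `x` = `12`, `u` = `13`.

* `exists_swap` : if a normal 2-subgroup `N` of the stabiliser of `{x, x + y}` centralises `x`, moves `u` only inside
  `{0, y, x, x + y}` and contains a transvection of `W/⟨y⟩` with centre `θ ∈ Θ`, then `θ ∈ {x, x + y}` or some `g ∈ H`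
  interchanges `x` and `x + y`, fixes `u` modulo `y`, and no `g w + w` lies in `u + {0, y, x, x + y}`;
* `exists_swap_of_fix` : the same if `N` fixes `u` (only one transvection is used, no normality of `N` in the second step);
* `blk_three`, `fix_blk`, `blk_V` : the case `θ ∈ {x, x + y}`.
-/

set_option autoImplicit false
set_option linter.unusedSectionVars false

namespace Cfsg.Agent.Omega.NO3S.JZ.Mod

open Cfsg.Agent.Omega.FOne.Tvw

variable {W : Type*} [AddCommGroup W] [Module (ZMod 2) W]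
variable {H N : Subgroup (W ≃ₗ[ZMod 2] W)} {y x u θ : W} {Θ : Set W} {f d : W →ₗ[ZMod 2] ZMod 2}

section decide

set_option synthInstance.maxSize 1000
set_option synthInstance.maxHeartbeats 400000
set_option maxRecDepth 100000

theorem decA : ∀ c k : T3, c ≠ 0 → k ≠ 0 → dot k c = 0 →
    ∃ c' l : T3, c' ≠ 0 ∧ l ≠ 0 ∧ dot k c' = 1 ∧ dot l c' = 0 ∧ dot l c = 1 := by decide

theorem decB : ∀ c k k' : T3, c ≠ 0 → k ≠ 0 → k' ≠ 0 → k ≠ k' → dot k c = 0 → dot k' c = 0 →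
    ∃ c' : T3, c' ≠ 0 ∧ k + k' ≠ 0 ∧ dot (k + k') c = 0 ∧ dot (k + k') c' = 0 ∧ dot k c' = 1 := by decide

theorem decD : ∀ c : T3, c ≠ 0 → ∃ c' k : T3, c' ≠ 0 ∧ c' ≠ c ∧ k ≠ 0 ∧ dot k c = 0 ∧ dot k c' = 0 ∧
    ∀ k' : T3, k' ≠ 0 → k' ≠ k → dot k' c' = 0 → dot k' c = 1 := by decide

theorem decE : ∀ a b : T3, a ≠ 0 → b ≠ 0 → a ≠ b → ∃ k : T3, k ≠ 0 ∧ dot k a = 0 ∧ dot k b = 0 ∧
    ∀ v : T3, dot k v = 0 → v = 0 ∨ v = a ∨ v = b ∨ v = a + b := by decide

theorem decF : ∀ a b : T3, a ≠ 0 → b ≠ 0 → a ≠ b → ∃ l c : T3, c ≠ 0 ∧ dot l c = 0 ∧ dot l a = 1 ∧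
    a + c ≠ 0 ∧ c ≠ 0 ∧ a + c ≠ b ∧ a + c ≠ a + b := by decide

theorem decG : ∀ a : T3, a ≠ 0 → ∃ k c : T3, c ≠ 0 ∧ dot k c = 0 ∧ dot k a = 1 := by decide

theorem decH : ∀ a b : T3, a ≠ 0 → b ≠ 0 → a ≠ b → a + b ≠ 0 := by decide

end decide

theorem st_mono (hN : N ≤ H) (s : St N y θ f d) : St H y θ f d := by
  obtain ⟨a, ha, e⟩ := s
  exact ⟨a, hN ha, e⟩

theorem st_conj (hfix : ∀ h ∈ H, h y = y) {g : W ≃ₗ[ZMod 2] W} (hg : g ∈ H)
    (hN : ∀ n ∈ N, g * n * g⁻¹ ∈ N) (s : St N y θ f d) : St N y (g θ) (tr g f) (tr g d) := by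
  obtain ⟨a, ha, e⟩ := s
  refine ⟨_, hN a ha, fun w => ?_⟩
  rw [LinearEquiv.mul_apply, LinearEquiv.mul_apply, e, map_add, map_add, map_smul, map_smul, hfix g hg, ap_inv,
    tr_apply, tr_apply]

section frame

variable [Finite W] (h : Hyp H y Θ) {t1 t2 t3 : W} {p1 p2 p3 : W →ₗ[ZMod 2] ZMod 2}
  (F : Fr H y Θ t1 t2 t3 p1 p2 p3)
include h F

/-- the two functionals of a transvection of the block. -/
theorem two_fun (hθ : θ ∈ Θ) (hc : Fr.cd p1 p2 p3 θ ≠ 0) (s : St H y θ f d) (hf : f ≠ 0) :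
    ∃ k k' : T3, f = pv p1 p2 p3 k ∧ d = pv p1 p2 p3 k' ∧ k ≠ 0 ∧ k' ≠ 0 ∧ k ≠ k' ∧
      dot k (Fr.cd p1 p2 p3 θ) = 0 ∧ dot k' (Fr.cd p1 p2 p3 θ) = 0 := by
  obtain ⟨k, rfl, hk⟩ := F.eq_pv h hθ hc s
  have k0 : k ≠ 0 := by
    rintro rfl
    exact hf (pv_zero _ _ _)
  obtain ⟨k', rfl, k'0, hne, hk'⟩ := F.d_eq h hθ hc k0 s
  exact ⟨k, k', rfl, rfl, k0, k'0, hne.symm, hk, hk'⟩

/-- a vector killed by both functionals of a transvection has no component or the component of the centre. -/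
theorem cd_of_fix (hθ : θ ∈ Θ) (hc : Fr.cd p1 p2 p3 θ ≠ 0) (s : St H y θ f d) (hf : f ≠ 0) {w : W}
    (e1 : f w = 0) (e2 : d w = 0) : Fr.cd p1 p2 p3 w = 0 ∨ Fr.cd p1 p2 p3 w = Fr.cd p1 p2 p3 θ := by
  obtain ⟨k, k', rfl, rfl, k0, k'0, hne, hk, hk'⟩ := two_fun h F hθ hc s hf
  rw [pv_apply] at e1 e2
  exact dec8 _ k k' _ ⟨hc, k0, k'0, hne⟩ ⟨hk, hk'⟩ ⟨e1, e2⟩

end frame

variable [Finite W]

/-- the swapping transvection. -/
theorem exists_g (h : Hyp H y Θ) {t1 t2 t3 : W} {p1 p2 p3 : W →ₗ[ZMod 2] ZMod 2}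
    (F : Fr H y Θ t1 t2 t3 p1 p2 p3) (hc : Fr.cd p1 p2 p3 x ≠ 0)
    (hu : Fr.cd p1 p2 p3 u = 0 ∨ Fr.cd p1 p2 p3 u = Fr.cd p1 p2 p3 x)
    (u0 : u ≠ 0) (uy : u ≠ y) (ux : u ≠ x) (uxy : u ≠ x + y) :
    ∃ g ∈ H, g x = x + y ∧ (g u = u ∨ g u = u + y) ∧
      ∀ w, g w + w ≠ u ∧ g w + w ≠ u + y ∧ g w + w ≠ u + x ∧ g w + w ≠ u + x + y := by
  obtain ⟨c', k, c'0, c'c, k0, hkc, hkc', hkk⟩ := decD _ hc
  obtain ⟨d', s⟩ := F.st h c'0 hkc'
  have hm := F.mem h c'0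
  have hcc : Fr.cd p1 p2 p3 (tv t1 t2 t3 c') = c' := F.coord c'
  obtain ⟨k', rfl, k'0, k'k, hk'c'⟩ := F.d_eq h hm (by rw [hcc]; exact c'0) k0 s
  rw [hcc] at hk'c'
  have hk'c := hkk k' k'0 k'k hk'c'
  obtain ⟨g, hg, e⟩ := s
  have hky := F.p_y h k
  have eku : pv p1 p2 p3 k u = 0 := by
    rw [pv_apply]
    rcases hu with h1 | h1
    · rw [show (p1 u, p2 u, p3 u) = (0 : T3) from h1, dot_zero]
    · rw [show (p1 u, p2 u, p3 u) = Fr.cd p1 p2 p3 x from h1, hkc]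
  have ekx : pv p1 p2 p3 k x = 0 := by rw [pv_apply]; exact hkc
  have ek'x : pv p1 p2 p3 k' x = 1 := by rw [pv_apply]; exact hk'c
  refine ⟨g, hg, ?_, ?_, ?_⟩
  · rw [e, ekx, ek'x, zero_smul, one_smul, add_zero]
  · rw [e, eku, zero_smul, add_zero]
    rcases z2 (pv p1 p2 p3 k' u) with h1 | h1
    · left; rw [h1, zero_smul, add_zero]
    · right; rw [h1, one_smul]
  · intro w
    have e2 : g w + w = pv p1 p2 p3 k w • tv t1 t2 t3 c' + pv p1 p2 p3 k' w • y := by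
      rw [e]; linear_combination (norm := module) addself w
    have key : ∀ v : W, (Fr.cd p1 p2 p3 v = 0 ∨ Fr.cd p1 p2 p3 v = Fr.cd p1 p2 p3 x) → v ≠ 0 → v ≠ y →
        g w + w ≠ v := by
      intro v hv v0 vy hgv
      rw [e2] at hgv
      have h3 : Fr.cd p1 p2 p3 v = pv p1 p2 p3 k w • c' := by
        rw [← hgv, Fr.cd_add, Fr.cd_smul, Fr.cd_smul, F.cd_y h, smul_zero, add_zero, hcc]
      rcases z2 (pv p1 p2 p3 k w) with h4 | h4
      · rw [h4, zero_smul, zero_add] at hgv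
        rcases z2 (pv p1 p2 p3 k' w) with h5 | h5
        · rw [h5, zero_smul] at hgv; exact v0 hgv.symm
        · rw [h5, one_smul] at hgv; exact vy hgv.symm
      · rw [h4, one_smul] at h3
        rcases hv with h5 | h5
        · exact c'0 (by rw [← h3, h5])
        · exact c'c (by rw [← h3, h5])
    have hadd : ∀ a b : T3, a + a = 0 := fun a _ => t3self a
    have cuy : Fr.cd p1 p2 p3 (u + y) = Fr.cd p1 p2 p3 u := by rw [Fr.cd_add, F.cd_y h, add_zero]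
    have cux : Fr.cd p1 p2 p3 (u + x) = 0 ∨ Fr.cd p1 p2 p3 (u + x) = Fr.cd p1 p2 p3 x := by
      rw [Fr.cd_add]
      rcases hu with h1 | h1
      · right; rw [h1, zero_add]
      · left; rw [h1, t3self]
    have cuxy : Fr.cd p1 p2 p3 (u + x + y) = Fr.cd p1 p2 p3 (u + x) := by rw [Fr.cd_add, F.cd_y h, add_zero]
    refine ⟨key u hu u0 uy, key (u + y) (by rw [cuy]; exact hu) ?_ ?_, key (u + x) cux ?_ ?_,
      key (u + x + y) (by rw [cuxy]; exact cux) ?_ ?_⟩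
    · intro h1; exact uy (eq_of_add_eq_zero' h1)
    · intro h1; exact u0 (by simpa using h1)
    · intro h1; exact ux (eq_of_add_eq_zero' h1)
    · intro h1
      exact uxy (by rw [← h1]; linear_combination (norm := module) (-1 : ZMod 2) • addself x)
    · intro h1
      rw [add_assoc] at h1
      exact uxy (eq_of_add_eq_zero' h1)
    · intro h1
      have h2 : u + x = 0 := by simpa using h1
      exact ux (eq_of_add_eq_zero' h2)

/-- the component of `x` is the centre. -/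
theorem cd_x (h : Hyp H y Θ) (hN : N ≤ H) (h2 : IsPGroup 2 N) (hx : ∀ n ∈ N, n x = x)
    (hNn : ∀ g ∈ H, (g x = x ∨ g x = x + y) → ∀ n ∈ N, g * n * g⁻¹ ∈ N)
    {t1 t2 t3 : W} {p1 p2 p3 : W →ₗ[ZMod 2] ZMod 2} (F : Fr H y Θ t1 t2 t3 p1 p2 p3)
    (hθ : θ ∈ Θ) (hc : Fr.cd p1 p2 p3 θ ≠ 0) (s : St N y θ f d) (hf : f ≠ 0) :
    Fr.cd p1 p2 p3 x = Fr.cd p1 p2 p3 θ := by
  have sH := st_mono hN s
  obtain ⟨a, ha, ea⟩ := s
  have e1 := ea x
  rw [hx a ha, add_assoc] at e1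
  have e2 : f x • θ + d x • y = 0 := by simpa using e1
  obtain ⟨fx, dx⟩ := h.ind hθ e2
  refine (cd_of_fix h F hθ hc sH hf fx dx).resolve_left fun hcx => ?_
  obtain ⟨k0, k0', rfl, rfl, k00, k0'0, hne, hk, hk'⟩ := two_fun h F hθ hc sH hf
  obtain ⟨c', l, c'0, l0, hkc', hlc', hlc⟩ := decA _ k0 hc k00 hk
  obtain ⟨dd, sg⟩ := F.st h c'0 hlc'
  have hm := F.mem h c'0
  have hcc : Fr.cd p1 p2 p3 (tv t1 t2 t3 c') = c' := F.coord c'
  have sg' := sg
  obtain ⟨l', rfl, l'0, l'l, hl'c'⟩ := F.d_eq h hm (by rw [hcc]; exact c'0) l0 sg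
  rw [hcc] at hl'c'
  obtain ⟨g, hg, eg⟩ := sg'
  have hzx : ∀ k : T3, pv p1 p2 p3 k x = 0 := by
    intro k
    rw [pv_apply, show (p1 x, p2 x, p3 x) = (0 : T3) from hcx, dot_zero]
  have gx : g x = x := by rw [eg, hzx, hzx, zero_smul, zero_smul, add_zero, add_zero]
  have hginv : g⁻¹ = g := h.inv_eq hm hg eg
  have hn1 := hNn g hg (Or.inl gx) a ha
  set θ' := tv t1 t2 t3 c' with hθ'
  -- values
  have f1 : pv p1 p2 p3 k0 θ = 0 := by rw [pv_apply]; exact hk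
  have f2 : pv p1 p2 p3 k0 θ' = 1 := by rw [hθ', F.pv_tv]; exact hkc'
  have f3 : pv p1 p2 p3 k0' θ = 0 := by rw [pv_apply]; exact hk'
  have f4 : pv p1 p2 p3 l θ = 1 := by rw [pv_apply]; exact hlc
  have f5 : pv p1 p2 p3 l θ' = 0 := by rw [hθ', F.pv_tv]; exact hlc'
  have f6 : pv p1 p2 p3 l' θ' = 0 := by rw [hθ', F.pv_tv]; exact hl'c'
  set α := pv p1 p2 p3 k0' θ' with hα
  set β := pv p1 p2 p3 l' θ with hβ
  have ay : a y = y := h.fix a (hN ha)
  have gy : g y = y := h.fix g hg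
  have aθ : a θ = θ := by rw [ea, f1, f3, zero_smul, zero_smul, add_zero, add_zero]
  have aθ' : a θ' = θ' + θ + α • y := by rw [ea, f2, one_smul]
  have gθ : g θ = θ + θ' + β • y := by rw [eg, f4, one_smul]
  have gθ' : g θ' = θ' := by rw [eg, f5, f6, zero_smul, zero_smul, add_zero, add_zero]
  set m := a * (g * a * g⁻¹) with hmdef
  have hmN : m ∈ N := N.mul_mem ha hn1
  have mw : ∀ w, m w = a (g (a (g w))) := by
    intro w
    rw [hmdef, hginv]; rfl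
  have mθ : m θ = θ + θ' + β • y := by
    rw [mw]
    simp only [map_add, map_smul, gθ, gθ', gy, aθ, aθ', ay]
    linear_combination (norm := module) addself θ + addself θ + addself θ' + α • addself y + α • addself y +
      β • addself y
  have mθ' : m θ' = θ + (α + β) • y := by
    rw [mw]
    simp only [map_add, map_smul, gθ, gθ', gy, aθ, aθ', ay]
    linear_combination (norm := module) α • addself y + addself θ + addself θ'
  have m3 : (m ^ 3) θ = θ := by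
    have e3 : (m ^ 3) θ = m (m (m θ)) := by
      rw [pow_succ, pow_two]; rfl
    rw [e3, mθ]
    simp only [map_add, map_smul, mθ, mθ', h.fix m (hN hmN)]
    linear_combination (norm := module) addself θ + addself θ' + α • addself y +
      β • addself y + β • addself y + β • addself y
  obtain ⟨j, hj⟩ := (IsPGroup.iff_orderOf.1 h2) ⟨m, hmN⟩
  rw [Subgroup.orderOf_mk] at hj
  have hcop : Nat.Coprime 3 (orderOf m) := by
    rw [hj]; exact Nat.Coprime.pow_right _ (by decide)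
  obtain ⟨n, hn⟩ := exists_pow_eq_self_of_coprime hcop
  have hpow : ∀ n : ℕ, ((m ^ 3) ^ n) θ = θ := by
    intro n
    induction n with
    | zero => rfl
    | succ n ih =>
      rw [pow_succ, LinearEquiv.mul_apply, m3, ih]
  have h5 := hpow n
  rw [hn, mθ] at h5
  have h6 : θ' = β • y := by linear_combination (norm := module) h5 - β • addself y
  rcases z2 β with h7 | h7
  · rw [h7, zero_smul] at h6; exact h.th0 _ hm h6
  · rw [h7, one_smul] at h6; exact h.thy _ hm h6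

/-- **(s3)** with `N` trivial on `u` : no second conjugation. -/
theorem exists_swap_of_fix (h : Hyp H y Θ) (hN : N ≤ H) (h2 : IsPGroup 2 N) (hx : ∀ n ∈ N, n x = x)
    (hNn : ∀ g ∈ H, (g x = x ∨ g x = x + y) → ∀ n ∈ N, g * n * g⁻¹ ∈ N) (hθ : θ ∈ Θ)
    (s : St N y θ f d) (hf : f ≠ 0) (hu : ∀ n ∈ N, n u = u)
    (u0 : u ≠ 0) (uy : u ≠ y) (ux : u ≠ x) (uxy : u ≠ x + y) :
    ∃ g ∈ H, g x = x + y ∧ (g u = u ∨ g u = u + y) ∧
      ∀ w, g w + w ≠ u ∧ g w + w ≠ u + y ∧ g w + w ≠ u + x ∧ g w + w ≠ u + x + y := by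
  have sH := st_mono hN s
  obtain ⟨t2, t3, p1, p2, p3, F⟩ := h.exists_fr hθ sH hf
  have hc : Fr.cd p1 p2 p3 θ ≠ 0 := by
    intro e
    have := congrArg Prod.fst e
    rw [show (Fr.cd p1 p2 p3 θ).1 = 1 from F.a11] at this
    exact one_ne_zero this
  have hcx := cd_x h hN h2 hx hNn F hθ hc s hf
  obtain ⟨a, ha, ea⟩ := s
  have e1 := ea u
  rw [hu a ha, add_assoc] at e1
  have e2 : f u • θ + d u • y = 0 := by simpa using e1
  obtain ⟨fu, du⟩ := h.ind hθ e2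
  have hcu := cd_of_fix h F hθ hc sH hf fu du
  exact exists_g h F (by rw [hcx]; exact hc) (by rw [hcx]; exact hcu) u0 uy ux uxy

/-- **THEOREM JZ, module part.** -/
theorem exists_swap (h : Hyp H y Θ) (hN : N ≤ H) (h2 : IsPGroup 2 N) (hx : ∀ n ∈ N, n x = x)
    (hNn : ∀ g ∈ H, (g x = x ∨ g x = x + y) → ∀ n ∈ N, g * n * g⁻¹ ∈ N) (hθ : θ ∈ Θ)
    (s : St N y θ f d) (hf : f ≠ 0)
    (hu : ∀ n ∈ N, n u + u = 0 ∨ n u + u = y ∨ n u + u = x ∨ n u + u = x + y)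
    (u0 : u ≠ 0) (uy : u ≠ y) (ux : u ≠ x) (uxy : u ≠ x + y) :
    (θ = x ∨ θ = x + y) ∨ ∃ g ∈ H, g x = x + y ∧ (g u = u ∨ g u = u + y) ∧
      ∀ w, g w + w ≠ u ∧ g w + w ≠ u + y ∧ g w + w ≠ u + x ∧ g w + w ≠ u + x + y := by
  by_cases hθx : θ = x ∨ θ = x + y
  · exact Or.inl hθx
  right
  have sH := st_mono hN s
  obtain ⟨t2, t3, p1, p2, p3, F⟩ := h.exists_fr hθ sH hf
  have hc : Fr.cd p1 p2 p3 θ ≠ 0 := by
    intro e
    have := congrArg Prod.fst e
    rw [show (Fr.cd p1 p2 p3 θ).1 = 1 from F.a11] at this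
    exact one_ne_zero this
  have hcx := cd_x h hN h2 hx hNn F hθ hc s hf
  obtain ⟨k0, k0', rfl, rfl, k00, k0'0, hne0, hk0, hk0'⟩ := two_fun h F hθ hc sH hf
  -- all transvections with centre `θ` lie in `N`
  have all : ∀ k : T3, k ≠ 0 → dot k (Fr.cd p1 p2 p3 θ) = 0 → ∃ dk, St N y θ (pv p1 p2 p3 k) dk := by
    intro k hk hkc
    by_cases hkk : k0 = k
    · rw [← hkk]; exact ⟨_, s⟩
    obtain ⟨c', c'0, l0, hlc, hlc', hkc'⟩ := decB _ k0 k hc k00 hk hkk hk0 hkc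
    obtain ⟨dd, sg⟩ := F.st h c'0 hlc'
    have hm := F.mem h c'0
    have hcc : Fr.cd p1 p2 p3 (tv θ t2 t3 c') = c' := F.coord c'
    have sg' := sg
    obtain ⟨l', rfl, l'0, l'l, hl'c'⟩ := F.d_eq h hm (by rw [hcc]; exact c'0) l0 sg
    obtain ⟨g, hg, eg⟩ := sg'
    have hginv : g⁻¹ = g := h.inv_eq hm hg eg
    have mv : ∀ w : W, Fr.cd p1 p2 p3 w = Fr.cd p1 p2 p3 θ → g w = w ∨ g w = w + y := by
      intro w hw
      have h1 : pv p1 p2 p3 (k0 + k) w = 0 := by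
        rw [pv_apply, show (p1 w, p2 w, p3 w) = Fr.cd p1 p2 p3 θ from hw]; exact hlc
      rw [eg, h1, zero_smul, add_zero]
      rcases z2 (pv p1 p2 p3 l' w) with h3 | h3
      · left; rw [h3, zero_smul, add_zero]
      · right; rw [h3, one_smul]
    have s1 := st_conj h.fix hg (hNn g hg (mv x hcx)) s
    obtain ⟨dk, s2⟩ := st_lift s1 (lift_symm (mv θ rfl))
    refine ⟨dk, ?_⟩
    have e4 : tr g (pv p1 p2 p3 k0) = pv p1 p2 p3 k := by
      ext w
      rw [tr_apply, hginv, eg, map_add, map_add, map_smul, map_smul, F.pv_tv, hkc', F.p_y h, smul_zero,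
        add_zero, smul_eq_mul, mul_one, pv_add, LinearMap.add_apply]
      linear_combination z2add (pv p1 p2 p3 k0 w)
    rw [e4] at s2
    exact s2
  -- the component of `u`
  have hku : ∀ k : T3, k ≠ 0 → dot k (Fr.cd p1 p2 p3 θ) = 0 → dot k (Fr.cd p1 p2 p3 u) = 0 := by
    intro k hk hkc
    obtain ⟨dk, n, hn, en⟩ := all k hk hkc
    rw [← pv_apply]
    refine (z2 _).resolve_right fun h1 => hθx ?_
    have e2 : n u + u = θ + dk u • y := by
      rw [en, h1, one_smul]; linear_combination (norm := module) addself u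
    have e3 : n u + u = θ ∨ n u + u = θ + y := by
      rcases z2 (dk u) with h3 | h3
      · left; rw [e2, h3, zero_smul, add_zero]
      · right; rw [e2, h3, one_smul]
    have t0 := h.th0 θ hθ
    have ty := h.thy θ hθ
    rcases hu n hn with h4 | h4 | h4 | h4 <;> rcases e3 with h5 | h5 <;> rw [h4] at h5
    · exact absurd h5.symm t0
    · exact absurd (eq_of_add_eq_zero' h5.symm) ty
    · exact absurd h5.symm ty
    · exact absurd (by simpa using h5) t0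
    · exact Or.inl h5.symm
    · right; rw [h5]; linear_combination (norm := module) (-1 : ZMod 2) • addself y
    · right; exact h5.symm
    · left; linear_combination (norm := module) (-1 : ZMod 2) • h5
  have hcu : Fr.cd p1 p2 p3 u = 0 ∨ Fr.cd p1 p2 p3 u = Fr.cd p1 p2 p3 θ :=
    dec8 _ k0 k0' _ ⟨hc, k00, k0'0, hne0⟩ ⟨hk0, hk0'⟩ ⟨hku k0 k00 hk0, hku k0' k0'0 hk0'⟩
  exact exists_g h F (by rw [hcx]; exact hc) (by rw [hcx]; exact hcu) u0 uy ux uxy

/-! ### The case `x ∈ X` -/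

variable {X X' X'' : Submodule (ZMod 2) W}

/-- a block through the centre -/
theorem exists_blk (h : Hyp H y Θ) (hθ : θ ∈ Θ) (s : St H y θ f d) (hf : f ≠ 0)
    (hx : θ = x ∨ θ = x + y) : ∃ X, Blk H y X ∧ x ∈ X := by
  obtain ⟨t2, t3, p1, p2, p3, F⟩ := h.exists_fr hθ s hf
  refine ⟨_, ⟨_, h, _, _, _, _, _, _, F, rfl⟩, ?_⟩
  have h1 : θ ∈ blk y θ t2 t3 := by simpa [tv] using tv_mem_blk y θ t2 t3 (1, 0, 0)
  rcases hx with h2 | h2
  · rw [← h2]; exact h1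
  · have h3 : x = θ + y := by rw [h2]; linear_combination (norm := module) (-1 : ZMod 2) • addself y
    rw [h3]
    exact Submodule.add_mem _ h1 (y_mem_blk _ _ _ _)

/-- three vectors with sum `y`, each in a block: the same block. -/
theorem blk_three (B : Blk H y X) (B' : Blk H y X') (B'' : Blk H y X'') {v : W} (hx : x ∈ X) (hu : u ∈ X')
    (hv : v ∈ X'') (x0 : x ≠ 0) (xy : x ≠ y) (e : x + u + v = y) : u ∈ X := by
  by_contra hcon
  have n1 : X ≠ X' := by rintro rfl; exact hcon hu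
  have n2 : X ≠ X'' := by
    rintro rfl
    apply hcon
    have h1 : u = x + v + y := by
      rw [← e]; linear_combination (norm := module) (-1 : ZMod 2) • addself x + (-1 : ZMod 2) • addself v
    rw [h1]
    exact Submodule.add_mem _ (Submodule.add_mem _ hx hv) B.y_mem
  have B0 := B
  obtain ⟨Θ, h, t1, t2, t3, p1, p2, p3, F, rfl⟩ := B
  have hcx := F.cd_ne_zero h hx x0 xy
  obtain ⟨k, c, c0, hkc, hkx⟩ := decG _ hcx
  obtain ⟨dk, s⟩ := F.st h c0 hkc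
  have hm := F.mem h c0
  have h1 := (B0.kill B' n1 (tv_mem_blk y t1 t2 t3 c) (h.th0 _ hm) (h.thy _ hm) s hu).1
  have h2 := (B0.kill B'' n2 (tv_mem_blk y t1 t2 t3 c) (h.th0 _ hm) (h.thy _ hm) s hv).1
  have h3 := F.p_y h k
  rw [← e, map_add, map_add, h1, h2, pv_apply, add_zero, add_zero] at h3
  rw [show (p1 x, p2 x, p3 x) = Fr.cd p1 p2 p3 x from rfl, hkx] at h3
  exact one_ne_zero h3

/-- `{x, u}` in the block: the pointwise stabiliser is trivial on the block. -/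
theorem fix_blk (B : Blk H y X) (hx : x ∈ X) (hu : u ∈ X) (x0 : x ≠ 0) (xy : x ≠ y) (u0 : u ≠ 0) (uy : u ≠ y)
    (ux : u ≠ x) (uxy : u ≠ x + y) {g : W ≃ₗ[ZMod 2] W} (hg : g ∈ H) (gx : g x = x) (gu : g u = u) {w : W}
    (hw : w ∈ X) : g w = w := by
  have hX : ∀ v ∈ X, g v ∈ X := fun v hv => B.inv_of hg hx x0 xy (by rw [gx]; exact hx) hv
  have gy := B.base.fix g hg
  have B0 := B
  -- `g² = 1` on `X`
  have h2 : ∀ v ∈ X, g (g v) = v := by
    obtain ⟨Θ, h, t1, t2, t3, p1, p2, p3, F, rfl⟩ := B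
    have cx := F.cd_ne_zero h hx x0 xy
    have cu := F.cd_ne_zero h hu u0 uy
    have sum0 : ∀ v w : W, v ∈ blk y t1 t2 t3 → w ∈ blk y t1 t2 t3 → Fr.cd p1 p2 p3 v = Fr.cd p1 p2 p3 w →
        v = w ∨ v = w + y := fun v w hv hw e => F.eq_or h hv hw e
    have cne : Fr.cd p1 p2 p3 x ≠ Fr.cd p1 p2 p3 u := by
      intro e
      rcases sum0 u x hu hx e.symm with h1 | h1
      · exact ux h1
      · exact uxy h1
    obtain ⟨k, k0, hkx, hku, hk⟩ := decE _ _ cx cu cne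
    have inn : ∀ v ∈ blk y t1 t2 t3, dot k (Fr.cd p1 p2 p3 v) = 0 → g v = v := by
      intro v hv hkv
      have hy : ∀ s : W, g s = s → (v = s ∨ v = s + y) → g v = v := by
        rintro s hs (rfl | rfl)
        · exact hs
        · rw [map_add, hs, gy]
      rcases hk _ hkv with h1 | h1 | h1 | h1
      · refine hy 0 (map_zero g) (sum0 v 0 hv (Submodule.zero_mem _) ?_)
        rw [h1]; simp [Fr.cd]; rfl
      · exact hy x gx (sum0 v x hv hx h1)
      · exact hy u gu (sum0 v u hv hu h1)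
      · refine hy (x + u) (by rw [map_add, gx, gu]) (sum0 v (x + u) hv (Submodule.add_mem _ hx hu) ?_)
        rw [h1, Fr.cd_add]
    intro v hv
    rcases z2 (dot k (Fr.cd p1 p2 p3 v)) with h1 | h1
    · rw [inn v hv h1, inn v hv h1]
    · have h3 : dot k (Fr.cd p1 p2 p3 (g v)) = 1 := by
        refine (z2 _).resolve_left fun h4 => ?_
        have h5 := inn (g v) (hX v hv) h4
        have h6 := g.injective h5
        rw [h6, h1] at h4
        exact one_ne_zero h4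
      have h7 : dot k (Fr.cd p1 p2 p3 (g v + v)) = 0 := by
        rw [Fr.cd_add, dadd', h3, h1]; rfl
      have h8 := inn (g v + v) (Submodule.add_mem _ (hX v hv) hv) h7
      rw [map_add] at h8
      have h9 : g (g v) + g v = v + g v := by rw [h8, add_comm]
      exact add_right_cancel h9
  by_contra hne
  obtain ⟨θ, hθ, t0, ty, hiff, -⟩ := B0.inv hg hX h2 ⟨w, hw, hne⟩
  have h3 := (hiff x hx).1 gx
  have h4 := (hiff u hu).1 gu
  rcases h3 with h3 | h3 | h3 | h3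
  · exact x0 h3
  · exact xy h3
  · rcases h4 with h4 | h4 | h4 | h4
    · exact u0 h4
    · exact uy h4
    · exact ux (by rw [h4, h3])
    · exact uxy (by rw [h4, h3])
  · rcases h4 with h4 | h4 | h4 | h4
    · exact u0 h4
    · exact uy h4
    · exact uxy (by rw [h4, h3]; linear_combination (norm := module) (-1 : ZMod 2) • addself y)
    · exact ux (by rw [h4, h3])

/-- some element of the block group moves `x` out of `⟨x, u, y⟩`. -/
theorem exists_move (B : Blk H y X) (hx : x ∈ X) (hu : u ∈ X) (x0 : x ≠ 0) (xy : x ≠ y) (u0 : u ≠ 0) (uy : u ≠ y)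
    (ux : u ≠ x) (uxy : u ≠ x + y) :
    ∃ g ∈ H, (∀ w ∈ X, g w ∈ X) ∧ ∀ a b c : ZMod 2, g x ≠ a • x + b • u + c • y := by
  have B0 := B
  obtain ⟨Θ, h, t1, t2, t3, p1, p2, p3, F, rfl⟩ := B
  have cx := F.cd_ne_zero h hx x0 xy
  have cu := F.cd_ne_zero h hu u0 uy
  have cne : Fr.cd p1 p2 p3 x ≠ Fr.cd p1 p2 p3 u := by
    intro e
    rcases F.eq_or h hu hx e.symm with h1 | h1
    · exact ux h1
    · exact uxy h1
  obtain ⟨l, c, c0, hlc, hlx, n1, n2, n3, n4⟩ := decF _ _ cx cu cne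
  obtain ⟨dl, g, hg, eg⟩ := F.st h c0 hlc
  have lx : pv p1 p2 p3 l x = 1 := by rw [pv_apply]; exact hlx
  have egx : g x = x + tv t1 t2 t3 c + dl x • y := by rw [eg, lx, one_smul]
  have hgx : g x ∈ blk y t1 t2 t3 := by
    rw [egx]
    exact Submodule.add_mem _ (Submodule.add_mem _ hx (tv_mem_blk _ _ _ _ c))
      (Submodule.smul_mem _ _ (y_mem_blk _ _ _ _))
  refine ⟨g, hg, fun w hw => B0.inv_of hg hx x0 xy hgx hw, ?_⟩
  intro a b e hcon
  have h1 : Fr.cd p1 p2 p3 (g x) = Fr.cd p1 p2 p3 x + c := by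
    rw [egx, Fr.cd_add, Fr.cd_add, Fr.cd_smul, F.cd_y h, smul_zero, add_zero,
      show Fr.cd p1 p2 p3 (tv t1 t2 t3 c) = c from F.coord c]
  rw [hcon, Fr.cd_add, Fr.cd_add, Fr.cd_smul, Fr.cd_smul, Fr.cd_smul, F.cd_y h, smul_zero, add_zero] at h1
  rcases z2 a with rfl | rfl <;> rcases z2 b with rfl | rfl
  · rw [zero_smul, zero_smul, add_zero] at h1; exact n1 h1.symm
  · rw [zero_smul, one_smul, zero_add] at h1; exact n3 h1.symm
  · rw [one_smul, zero_smul, add_zero] at h1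
    exact n2 (by simpa using h1)
  · rw [one_smul, one_smul] at h1; exact n4 h1.symm

/-- **the case `x ∈ X`** : `x, u, v` are conjugate under `H`, `x + u + v = y`, the pointwise stabiliser of `{x, u}`
fixes only vectors of `V`, `|V| = 16`: then some `g ∈ H` normalises `V` and moves `x` out of `⟨x, u, y⟩`. -/
theorem blk_V (B : Blk H y X) (hx : x ∈ X) (x0 : x ≠ 0) (xy : x ≠ y) (u0 : u ≠ 0) (uy : u ≠ y)
    (ux : u ≠ x) (uxy : u ≠ x + y) (h1 : ∃ g ∈ H, g x = u) (h2 : ∃ g ∈ H, g x = x + u + y)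
    {V : Submodule (ZMod 2) W} (hV : Nat.card V = 16)
    (hfix : ∀ w, (∀ g ∈ H, g x = x → g u = u → g w = w) → w ∈ V) :
    ∃ g ∈ H, (∀ w ∈ V, g w ∈ V) ∧ ∀ a b c : ZMod 2, g x ≠ a • x + b • u + c • y := by
  obtain ⟨g1, hg1, e1⟩ := h1
  obtain ⟨g2, hg2, e2⟩ := h2
  have hu : u ∈ X := by
    refine blk_three B (B.map hg1) (B.map hg2) hx ⟨x, hx, e1⟩ ⟨x, hx, e2⟩ x0 xy ?_
    linear_combination (norm := module) addself x + addself u
  have hle : X ≤ V := fun w hw => hfix w fun g hg gx gu => fix_blk B hx hu x0 xy u0 uy ux uxy hg gx gu hw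
  have hXV : X = V := by
    apply SetLike.coe_injective
    exact Set.eq_of_subset_of_ncard_le hle
      (by rw [← Nat.card_coe_set_eq, ← Nat.card_coe_set_eq]; exact (hV.trans B.card.symm).le) (Set.toFinite _)
  subst hXV
  exact exists_move B hx hu x0 xy u0 uy ux uxy

end Cfsg.Agent.Omega.NO3S.JZ.Mod
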